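import Mathlib
import Cfsg.Prelude.Def_HallClasses
set_option linter.all false

/-!
General facts about Hall `π`-subgroups and the classes `E_π`, `C_π`, `D_π` of finite groups.
-/

set_option autoImplicit false

namespace Cfsg.Agent.H164

universe u

variable {G : Type u} [Group G]

/-- A `p`-subgroup is conjugate into any subgroup of index prime to `p`. -/
theorem exists_conj_mem_of_isPGroup [Finite G] {H E : Subgroup G} {p : ℕ} (hp : p.Prime)
    (hH : ¬ p ∣ H.index) (hE : IsPGroup p E) : ∃ g : G, ∀ e ∈ E, g⁻¹ * e * g ∈ H := by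
  have : Fact p.Prime := ⟨hp⟩
  obtain ⟨x, hx⟩ := hE.nonempty_fixed_point_of_prime_not_dvd_card (G ⧸ H)
    (by rwa [← Subgroup.index_eq_card])
  obtain ⟨g, rfl⟩ := QuotientGroup.mk_surjective x
  refine ⟨g, fun e he => ?_⟩
  have h1 := hx ⟨e, he⟩
  have h2 : ((e * g : G) : G ⧸ H) = (g : G ⧸ H) := h1
  have h3 := QuotientGroup.eq.mp h2.symm
  rwa [← mul_assoc] at h3

/-- `π`-subgroups (for use with the Prelude predicate) -/
theorem isPiSubgroup_mono {π : Set ℕ} [Finite G] {H K : Subgroup G} (h : H ≤ K)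
    (hK : Cfsg.IsPiSubgroup π K) : Cfsg.IsPiSubgroup π H :=
  fun p hp hpd => hK p hp (hpd.trans (Subgroup.card_dvd_of_le h))

theorem hall_eq_of_le [Finite G] {π : Set ℕ} {H L : Subgroup G} (hH : Cfsg.IsPiHall π H)
    (hL : Cfsg.IsPiSubgroup π L) (hle : H ≤ L) : H = L := by
  have h1 : H.relIndex L = 1 := by
    by_contra hne
    obtain ⟨r, hr, hrd⟩ := Nat.exists_prime_and_dvd hne
    have h2 : H.relIndex L ∣ Nat.card L := Subgroup.relIndex_dvd_card _ _
    have h3 : H.relIndex L ∣ H.index := Subgroup.relIndex_dvd_index_of_le hle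
    exact hH.2 r hr (hL r hr (hrd.trans h2)) (hrd.trans h3)
  exact le_antisymm hle (Subgroup.relIndex_eq_one.mp h1)

theorem hall_card_dvd [Finite G] {π : Set ℕ} {H K : Subgroup G} (hH : Cfsg.IsPiHall π H)
    (hK : Cfsg.IsPiHall π K) : Nat.card H ∣ Nat.card K := by
  rw [Nat.dvd_iff_prime_pow_dvd_dvd]
  intro r k hr hk
  rcases Nat.eq_zero_or_pos k with rfl | hk0
  · simp
  have h1 : r ∈ π := hH.1 r hr ((dvd_pow_self r (by omega)).trans hk)
  have h2 : r ^ k ∣ Nat.card K * K.index := by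
    rw [Subgroup.card_mul_index]
    exact hk.trans (Subgroup.card_subgroup_dvd_card H)
  have h3 : Nat.Coprime (r ^ k) K.index :=
    Nat.Coprime.pow_left k ((Nat.Prime.coprime_iff_not_dvd hr).mpr (hK.2 r hr h1))
  exact h3.dvd_of_dvd_mul_right h2

theorem hall_card_eq [Finite G] {π : Set ℕ} {H K : Subgroup G} (hH : Cfsg.IsPiHall π H)
    (hK : Cfsg.IsPiHall π K) : Nat.card H = Nat.card K :=
  Nat.dvd_antisymm (hall_card_dvd hH hK) (hall_card_dvd hK hH)

/-- conjugating a Hall subgroup -/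
theorem card_map_conj (H : Subgroup G) (g : G) :
    Nat.card (H.map (MulAut.conj g).toMonoidHom) = Nat.card H :=
  Nat.card_congr (H.equivMapOfInjective _ (MulAut.conj g).injective).toEquiv.symm

theorem hall_iff_of_card_eq [Finite G] {π : Set ℕ} {H K : Subgroup G}
    (h : Nat.card H = Nat.card K) (hH : Cfsg.IsPiHall π H) : Cfsg.IsPiHall π K := by
  have h1 : H.index = K.index := by
    have h2 := H.card_mul_index
    have h3 := K.card_mul_index
    rw [← h3, h] at h2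
    exact Nat.eq_of_mul_eq_mul_left Nat.card_pos h2
  unfold Cfsg.IsPiHall at hH ⊢
  rw [← h, ← h1]
  exact hH

theorem hall_map_conj [Finite G] {π : Set ℕ} {H : Subgroup G} (hH : Cfsg.IsPiHall π H) (g : G) :
    Cfsg.IsPiHall π (H.map (MulAut.conj g).toMonoidHom) :=
  hall_iff_of_card_eq (card_map_conj H g).symm hH

theorem pi_map_conj {π : Set ℕ} {H : Subgroup G} (hH : Cfsg.IsPiSubgroup π H) (g : G) :
    Cfsg.IsPiSubgroup π (H.map (MulAut.conj g).toMonoidHom) := by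
  unfold Cfsg.IsPiSubgroup
  rw [card_map_conj]
  exact hH

/-- a `π`-subgroup lies in a maximal one -/
theorem exists_maximal_pi [Finite G] {π : Set ℕ} {W : Subgroup G}
    (hW : Cfsg.IsPiSubgroup π W) : ∃ M, W ≤ M ∧ Maximal (Cfsg.IsPiSubgroup π) M :=
  Finite.exists_le_maximal hW

theorem hall_maximal [Finite G] {π : Set ℕ} {H : Subgroup G} (hH : Cfsg.IsPiHall π H) :
    Maximal (Cfsg.IsPiSubgroup π) H :=
  ⟨hH.1, fun L hL hle => (hall_eq_of_le hH hL hle).ge⟩

theorem isDPi_iff_le [Finite G] {π : Set ℕ} (hD : Cfsg.IsDPiGroup π G) {H W : Subgroup G}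
    (hH : Cfsg.IsPiHall π H) (hW : Cfsg.IsPiSubgroup π W) :
    ∃ g : G, W ≤ H.map (MulAut.conj g).toMonoidHom := by
  obtain ⟨M, hWM, hM⟩ := exists_maximal_pi hW
  obtain ⟨g, hg⟩ := hD H M (hall_maximal hH) hM
  exact ⟨g, hg ▸ hWM⟩

theorem bot_pi {π : Set ℕ} : Cfsg.IsPiSubgroup π (⊥ : Subgroup G) := by
  intro p hp hpd
  rw [Subgroup.card_bot] at hpd
  exact absurd (Nat.dvd_one.mp hpd) hp.one_lt.ne'

theorem isEPi_of_isDPi [Finite G] {π : Set ℕ} (hD : Cfsg.IsDPiGroup π G) :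
    Cfsg.IsEPiGroup π G := by
  obtain ⟨M, _, hM⟩ := exists_maximal_pi (π := π) (G := G) bot_pi
  refine ⟨M, hM.1, ?_⟩
  intro p hp hpπ hdvd
  have : Fact p.Prime := ⟨hp⟩
  obtain ⟨P⟩ : Nonempty (Sylow p G) := inferInstance
  have hP : Cfsg.IsPiSubgroup π (P : Subgroup G) := by
    intro r hr hrd
    obtain ⟨n, hn⟩ := (IsPGroup.iff_card (p := p)).mp P.isPGroup'
    rw [hn] at hrd
    rw [(Nat.prime_dvd_prime_iff_eq hr hp).mp (hr.dvd_of_dvd_pow hrd)]
    exact hpπ
  obtain ⟨M', hPM', hM'⟩ := exists_maximal_pi hP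
  obtain ⟨g, hg⟩ := hD M M' hM hM'
  have h1 : Nat.card M' = Nat.card M := by rw [hg, card_map_conj]
  have h2 : M'.index = M.index := by
    have h2 := M.card_mul_index
    have h3 := M'.card_mul_index
    rw [← h3, h1] at h2
    exact (Nat.eq_of_mul_eq_mul_left Nat.card_pos h2).symm
  have h3 : M'.index ∣ (P : Subgroup G).index := Subgroup.index_dvd_of_le hPM'
  exact P.not_dvd_index (hdvd.trans (h2 ▸ h3))

/-- At most one prime in `π` divides `|G|`: Sylow's theorems. -/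
theorem one_prime [Finite G] {π : Set ℕ}
    (h : ∀ r s : ℕ, r.Prime → s.Prime → r ∈ π → s ∈ π → r ∣ Nat.card G → s ∣ Nat.card G → r = s) :
    Cfsg.IsCPiGroup π G ∧ Cfsg.IsDPiGroup π G := by
  by_cases hex : ∃ p : ℕ, p.Prime ∧ p ∈ π ∧ p ∣ Nat.card G
  · obtain ⟨p, hp, hpπ, hpd⟩ := hex
    have : Fact p.Prime := ⟨hp⟩
    have hpi : ∀ K : Subgroup G, Cfsg.IsPiSubgroup π K → IsPGroup p K := by
      intro K hK
      rw [IsPGroup.iff_card]
      refine ⟨_, Nat.eq_prime_pow_of_unique_prime_dvd Nat.card_pos.ne' ?_⟩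
      intro d hd hdd
      exact h d p hd hp (hK d hd hdd) hpπ (hdd.trans (Subgroup.card_subgroup_dvd_card K)) hpd
    have hpi' : ∀ K : Subgroup G, IsPGroup p K → Cfsg.IsPiSubgroup π K := by
      intro K hK r hr hrd
      obtain ⟨n, hn⟩ := (IsPGroup.iff_card (p := p)).mp hK
      rw [hn] at hrd
      rw [(Nat.prime_dvd_prime_iff_eq hr hp).mp (hr.dvd_of_dvd_pow hrd)]
      exact hpπ
    obtain ⟨P⟩ : Nonempty (Sylow p G) := inferInstance
    have hPH : Cfsg.IsPiHall π (P : Subgroup G) := by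
      refine ⟨hpi' _ P.isPGroup', fun r hr hrπ hrd => ?_⟩
      have h1 : r = p := h r p hr hp hrπ hpπ (hrd.trans (Subgroup.index_dvd_card _)) hpd
      subst h1
      exact P.not_dvd_index hrd
    have hmax : ∀ K : Subgroup G, Maximal (Cfsg.IsPiSubgroup π) K →
        ∃ Q : Sylow p G, (Q : Subgroup G) = K := by
      intro K hK
      obtain ⟨Q, hQ⟩ := (hpi K hK.1).exists_le_sylow
      exact ⟨Q, (le_antisymm hQ (hK.2 (hpi' _ Q.isPGroup') hQ)).symm⟩
    have hD : Cfsg.IsDPiGroup π G := by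
      intro H K hH hK
      obtain ⟨Q, rfl⟩ := hmax H hH
      obtain ⟨R, rfl⟩ := hmax K hK
      obtain ⟨g, hg⟩ := MulAction.exists_smul_eq G Q R
      exact ⟨g, by rw [← hg]; rfl⟩
    refine ⟨⟨⟨P, hPH⟩, fun H K hH hK => hD H K (hall_maximal hH) (hall_maximal hK)⟩, hD⟩
  · push Not at hex
    have hpi : ∀ K : Subgroup G, Cfsg.IsPiSubgroup π K → K = ⊥ := by
      intro K hK
      rw [← Subgroup.card_eq_one]
      by_contra hne
      obtain ⟨r, hr, hrd⟩ := Nat.exists_prime_and_dvd hne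
      exact hex r hr (hK r hr hrd) (hrd.trans (Subgroup.card_subgroup_dvd_card K))
    have hD : Cfsg.IsDPiGroup π G := by
      intro H K hH hK
      refine ⟨1, ?_⟩
      rw [hpi H hH.1, hpi K hK.1, Subgroup.map_bot]
    refine ⟨⟨⟨⊥, bot_pi, ?_⟩, fun H K hH hK => hD H K (hall_maximal hH) (hall_maximal hK)⟩, hD⟩
    intro r hr hrπ hrd
    rw [Subgroup.index_bot] at hrd
    exact hex r hr hrπ hrd

/-- every prime divisor of `|G|` lies in `π` -/
theorem all_primes [Finite G] {π : Set ℕ} (h : ∀ r : ℕ, r.Prime → r ∣ Nat.card G → r ∈ π) :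
    Cfsg.IsCPiGroup π G ∧ Cfsg.IsDPiGroup π G := by
  have htop : Cfsg.IsPiSubgroup π (⊤ : Subgroup G) := by
    intro r hr hrd
    rw [Subgroup.card_top] at hrd
    exact h r hr hrd
  have hD : Cfsg.IsDPiGroup π G := by
    intro H K hH hK
    refine ⟨1, ?_⟩
    have h1 : H = ⊤ := top_le_iff.mp (hH.2 htop le_top)
    have h2 : K = ⊤ := top_le_iff.mp (hK.2 htop le_top)
    rw [h1, h2]
    ext x
    simp
  refine ⟨⟨⟨⊤, htop, ?_⟩, fun H K hH hK => hD H K (hall_maximal hH) (hall_maximal hK)⟩, hD⟩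
  intro r hr hrπ hrd
  rw [Subgroup.index_top] at hrd
  exact absurd (Nat.dvd_one.mp hrd) hr.one_lt.ne'

end Cfsg.Agent.H164
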