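import Mathlib
import Cfsg.Agent.H164.HallGen
set_option linter.all false

-- part: H164/HallCyc
section
/-!
Permutation-theoretic tools for the classification of Hall subgroups of symmetric and
alternating groups.
-/

set_option autoImplicit false

namespace Cfsg.Agent.H164

open Equiv MulAction

/-- Any homomorphism between symmetric groups of finite sets maps even permutations to even
ones. -/
theorem hom_map_alternating_le {β α : Type*} [Fintype β] [DecidableEq β] [Fintype α]
    [DecidableEq α] (Φ : Perm β →* Perm α) :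
    (alternatingGroup β).map Φ ≤ alternatingGroup α := by
  rw [Subgroup.map_le_iff_le_comap, ← Equiv.Perm.closure_three_cycles_eq_alternating,
    Subgroup.closure_le]
  intro σ hσ
  have h3 : σ ^ 3 = 1 := by
    have := pow_orderOf_eq_one σ
    rwa [Equiv.Perm.IsThreeCycle.orderOf hσ] at this
  have h4 : (Perm.sign (Φ σ)) ^ 3 = 1 := by
    rw [← map_pow, ← map_pow, h3, map_one, map_one]
  simp only [SetLike.mem_coe, Subgroup.mem_comap, Perm.mem_alternatingGroup]
  rcases Int.units_eq_one_or (Perm.sign (Φ σ)) with h | h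
  · exact h
  · rw [h] at h4
    exact absurd h4 (by decide)

/-- version of `exists_conj_mem_of_isPGroup` inside a subgroup `A` -/
theorem exists_conj_mem_rel {G : Type*} [Group G] [Finite G] {A H E : Subgroup G} {p : ℕ}
    (hp : p.Prime) (hH : ¬ p ∣ H.relIndex A) (hEA : E ≤ A) (hE : IsPGroup p E) :
    ∃ g ∈ A, ∀ e ∈ E, g⁻¹ * e * g ∈ H := by
  have h1 : IsPGroup p (E.subgroupOf A) := by
    have := hE.comap_of_injective A.subtype A.subtype_injective
    exact this
  obtain ⟨g, hg⟩ := exists_conj_mem_of_isPGroup (H := H.subgroupOf A) (E := E.subgroupOf A) hp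
    hH h1
  refine ⟨g, g.2, fun e he => ?_⟩
  exact hg ⟨e, hEA he⟩ he

section LemmaE

variable {α : Type*} [Fintype α] [DecidableEq α]

/-- Many disjoint copies of a `p`-group of permutations of `Fin s` in a subgroup of index prime
to `p`. -/
theorem exists_copies {A H : Subgroup (Perm α)} {r s t : ℕ} (hr : r.Prime)
    (hidx : ¬ r ∣ H.relIndex A) (K : Subgroup (Perm (Fin s))) (hK : IsPGroup r K)
    (hA : ∀ Φ : Perm (Fin s) →* Perm α, K.map Φ ≤ A) (hts : t * s ≤ Fintype.card α) :
    ∃ ι : Fin t × Fin s → α, Function.Injective ι ∧ ∀ i, ∀ κ ∈ K, ∃ h ∈ H,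
      (∀ x, h (ι (i, x)) = ι (i, κ x)) ∧ ∀ y, (∀ x, y ≠ ι (i, x)) → h y = y := by
  classical
  obtain ⟨ι0⟩ : Nonempty ((Σ _ : Fin t, Fin s) ↪ α) := by
    apply Function.Embedding.nonempty_of_card_le
    simpa using hts
  let Θ : (Fin t → Perm (Fin s)) →* Perm α :=
    (Perm.viaEmbeddingHom ι0).comp (Perm.sigmaCongrRightHom (fun _ : Fin t => Fin s))
  have hΘ1 : ∀ σ (i : Fin t) x, Θ σ (ι0 ⟨i, x⟩) = ι0 ⟨i, σ i x⟩ := by
    intro σ i x
    simp only [Θ, MonoidHom.comp_apply, Perm.viaEmbeddingHom_apply, Perm.viaEmbedding_apply]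
    rfl
  have hΘ2 : ∀ σ y, y ∉ Set.range ι0 → Θ σ y = y := by
    intro σ y hy
    simp only [Θ, MonoidHom.comp_apply, Perm.viaEmbeddingHom_apply]
    exact Perm.viaEmbedding_apply_of_notMem _ _ _ hy
  let E : Subgroup (Perm α) := (Subgroup.pi Set.univ (fun _ : Fin t => K)).map Θ
  have hEp : IsPGroup r E := by
    apply IsPGroup.map
    have : Fact r.Prime := ⟨hr⟩
    obtain ⟨n, hn⟩ := (IsPGroup.iff_card (p := r)).mp hK
    rintro ⟨σ, hσ⟩
    refine ⟨n, ?_⟩
    apply Subtype.ext
    funext i
    have h1 : σ i ∈ K := hσ i (Set.mem_univ _)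
    have h2 : (⟨σ i, h1⟩ : K) ^ (r ^ n) = 1 := by
      rw [← hn]; exact pow_card_eq_one'
    exact congrArg Subtype.val h2
  have hEA : E ≤ A := by
    rw [Subgroup.map_le_iff_le_comap, Subgroup.pi_le_iff]
    intro i
    rw [Subgroup.map_le_iff_le_comap, Subgroup.comap_comap, ← Subgroup.map_le_iff_le_comap]
    exact hA _
  obtain ⟨g, hgA, hg⟩ := exists_conj_mem_rel hr hidx hEA hEp
  refine ⟨fun p => g⁻¹ (ι0 ⟨p.1, p.2⟩), ?_, ?_⟩
  · rintro ⟨i, x⟩ ⟨j, y⟩ h
    have h1 := ι0.injective (g⁻¹.injective h)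
    simp only [Sigma.mk.injEq, heq_eq_eq] at h1
    exact Prod.ext h1.1 h1.2
  · intro i κ hκ
    refine ⟨g⁻¹ * Θ (Pi.mulSingle i κ) * g, hg _ ⟨Pi.mulSingle i κ, ?_, rfl⟩, ?_, ?_⟩
    · intro j _
      by_cases hji : j = i
      · subst hji; simpa using hκ
      · rw [Pi.mulSingle_eq_of_ne hji]; exact K.one_mem
    · intro x
      simp only [Perm.mul_apply]
      rw [show g (g⁻¹ (ι0 ⟨i, x⟩)) = ι0 ⟨i, x⟩ from g.apply_symm_apply _, hΘ1,
        Pi.mulSingle_eq_same]
    · intro y hy
      simp only [Perm.mul_apply]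
      rw [Perm.inv_eq_iff_eq]
      by_cases hr : g y ∈ Set.range ι0
      · obtain ⟨⟨j, x⟩, hx⟩ := hr
        rw [← hx, hΘ1]
        have hji : j ≠ i := by
          rintro rfl
          apply hy x
          change y = g⁻¹ (ι0 ⟨j, x⟩)
          rw [hx]
          exact (g.symm_apply_apply y).symm
        rw [Pi.mulSingle_eq_of_ne hji]
        rfl
      · exact hΘ2 _ _ hr

end LemmaE

/-- A cycle of prime length `q` meeting a small set of "block type" fixes ... contradiction. -/
theorem cycle_block {α : Type*} [Fintype α] [DecidableEq α] {z : Perm α} {q : ℕ}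
    (hq : q.Prime) (hz : z.IsCycle) (hzc : z.support.card = q) (X : Finset α)
    (h2 : 2 ≤ X.card) (hlt : X.card < q) {a : α} (haX : a ∈ X) (haz : a ∈ z.support)
    (hX : ∀ i : ℕ, (∃ x ∈ X, (z ^ i) x ∈ X) → ∀ x ∈ X, (z ^ i) x ∈ X) : False := by
  have hord : orderOf z = q := by rw [hz.orderOf, hzc]
  have key : ∀ x ∈ X, z x ∈ X := by
    by_cases hsub : ∀ x ∈ X, x ∈ z.support
    · obtain ⟨b, hbX, hba⟩ : ∃ b ∈ X, b ≠ a := Finset.exists_mem_ne (by omega) a
      obtain ⟨i, hi⟩ := hz.exists_pow_eq (Perm.mem_support.mp haz) (Perm.mem_support.mp (hsub b hbX))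
      have h3 := hX i ⟨a, haX, hi ▸ hbX⟩
      have hcop : i.Coprime (orderOf z) := by
        rw [hord, Nat.coprime_comm, Nat.Prime.coprime_iff_not_dvd hq]
        rintro ⟨k, rfl⟩
        rw [pow_mul, ← hord, pow_orderOf_eq_one, one_pow] at hi
        exact hba hi.symm
      obtain ⟨m, hm⟩ := exists_pow_eq_self_of_coprime hcop
      have h4 : ∀ m : ℕ, ∀ x ∈ X, ((z ^ i) ^ m) x ∈ X := by
        intro m
        induction m with
        | zero => intro x hx; simpa using hx
        | succ m ih =>
          intro x hx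
          rw [pow_succ, Perm.mul_apply]
          exact ih _ (h3 x hx)
      intro x hx
      have := h4 m x hx
      rwa [hm] at this
    · push Not at hsub
      obtain ⟨c, hcX, hc⟩ := hsub
      have h3 := hX 1 ⟨c, hcX, by rw [pow_one, Perm.notMem_support.mp hc]; exact hcX⟩
      simpa using h3
  have hall : ∀ m : ℕ, (z ^ m) a ∈ X := by
    intro m
    induction m with
    | zero => simpa using haX
    | succ m ih => rw [pow_succ', Perm.mul_apply]; exact key _ ih
  have hsup : z.support ⊆ X := by
    intro y hy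
    obtain ⟨i, hi⟩ := hz.exists_pow_eq (Perm.mem_support.mp haz) (Perm.mem_support.mp hy)
    rw [← hi]; exact hall i
  have := Finset.card_le_card hsup
  omega

/-- two points interchanged by a group element: even order -/
theorem even_of_swap {G α : Type*} [Group G] [Finite G] [MulAction G α] {a b : α} (hab : a ≠ b)
    {g : G} (h1 : g • a = b) (h2 : g • b = a) : 2 ∣ Nat.card G := by
  have h3 : 2 ∣ orderOf g := by
    by_contra hodd
    have hodd' : Odd (orderOf g) := by
      rw [← Nat.not_even_iff_odd, even_iff_two_dvd]; exact hodd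
    obtain ⟨k, hk⟩ := hodd'
    have h4 : (g ^ 2) • a = a := by rw [pow_two, mul_smul, h1, h2]
    have h5 : ∀ k : ℕ, ((g ^ 2) ^ k) • a = a := by
      intro k
      induction k with
      | zero => simp
      | succ k ih => rw [pow_succ, mul_smul, h4, ih]
    have h6 : g ^ (orderOf g) • a = b := by
      rw [hk, pow_succ', mul_smul, pow_mul, h5, h1]
    rw [pow_orderOf_eq_one, one_smul] at h6
    exact hab h6
  exact h3.trans (orderOf_dvd_natCard g)

/-- a 3-cycle of points under a group element: order divisible by 3 -/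
theorem three_dvd_of_rot {G α : Type*} [Group G] [Finite G] [MulAction G α] {a b c : α}
    (hab : a ≠ b) {g : G} (h1 : g • a = b) (h2 : g • b = c) (h3 : g • c = a) :
    3 ∣ Nat.card G := by
  have h4 : 3 ∣ orderOf g := by
    by_contra hnd
    have h5 : (g ^ 3) • a = a := by
      rw [pow_succ, pow_two, mul_smul, mul_smul, h1, h2, h3]
    have hcop : (3 : ℕ).Coprime (orderOf g) :=
      (Nat.Prime.coprime_iff_not_dvd Nat.prime_three).mpr hnd
    obtain ⟨m, hm⟩ := exists_pow_eq_self_of_coprime hcop
    have h6 : ∀ k : ℕ, ((g ^ 3) ^ k) • a = a := by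
      intro k
      induction k with
      | zero => simp
      | succ k ih => rw [pow_succ, mul_smul, h5, ih]
    have h7 := h6 m
    rw [hm, h1] at h7
    exact hab h7.symm
  exact h4.trans (orderOf_dvd_natCard g)

/-- Two overlapping cycles of prime length `p` covering everything generate a group of even
order. -/
theorem even_of_cycles_cover {Ω : Type*} [Fintype Ω] [DecidableEq Ω] {G : Subgroup (Perm Ω)}
    {x y : Perm Ω} {p : ℕ} (hp : p.Prime) (hx : x.IsCycle) (hy : y.IsCycle)
    (hxc : x.support.card = p) (hyc : y.support.card = p) (hxG : x ∈ G) (hyG : y ∈ G)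
    {c : Ω} (hcx : c ∈ x.support) (hcy : c ∈ y.support)
    (hcov : ∀ a, a ∈ x.support ∨ a ∈ y.support) (hne : x.support ≠ Finset.univ) :
    2 ∣ Nat.card G := by
  have htrans : IsPretransitive G Ω := by
    have h1 : ∀ a : Ω, ∃ g : G, g • c = a := by
      intro a
      rcases hcov a with ha | ha
      · obtain ⟨i, hi⟩ := hx.exists_pow_eq (Perm.mem_support.mp hcx) (Perm.mem_support.mp ha)
        exact ⟨⟨x ^ i, pow_mem hxG i⟩, hi⟩
      · obtain ⟨i, hi⟩ := hy.exists_pow_eq (Perm.mem_support.mp hcy) (Perm.mem_support.mp ha)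
        exact ⟨⟨y ^ i, pow_mem hyG i⟩, hi⟩
    refine ⟨fun a b => ?_⟩
    obtain ⟨g, hg⟩ := h1 a
    obtain ⟨h, hh⟩ := h1 b
    exact ⟨h * g⁻¹, by rw [mul_smul, inv_smul_eq_iff.mpr hg.symm, hh]⟩
  have hcard : Fintype.card Ω < 2 * p := by
    have h1 : (Finset.univ : Finset Ω) = x.support ∪ y.support := by
      ext a; simpa using hcov a
    have h2 := Finset.card_union_add_card_inter x.support y.support
    have h3 : 0 < (x.support ∩ y.support).card :=
      Finset.card_pos.mpr ⟨c, Finset.mem_inter.mpr ⟨hcx, hcy⟩⟩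
    rw [← h1, Finset.card_univ] at h2
    omega
  have hltu : x.support.card < Fintype.card Ω := by
    rw [← Finset.card_univ]
    exact Finset.card_lt_card (Finset.ssubset_univ_iff.mpr hne)
  have ht2 := Perm.isPretransitive_of_isCycle_mem hx hxG
  have hcardS : Nat.card (SubMulAction.ofFixingSubgroup G (x.support : Set Ω)ᶜ) = p := by
    rw [← hxc]
    have : ∀ a : Ω, a ∈ (SubMulAction.ofFixingSubgroup G (x.support : Set Ω)ᶜ) ↔ a ∈ x.support := by
      intro a
      simp [SubMulAction.mem_ofFixingSubgroup_iff]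
    rw [Nat.card_congr (Equiv.subtypeEquivRight this), Nat.card_eq_fintype_card,
      Fintype.card_coe]
  have hprim0 : IsPreprimitive (fixingSubgroup G (x.support : Set Ω)ᶜ)
      (SubMulAction.ofFixingSubgroup G (x.support : Set Ω)ᶜ) := by
    apply IsPreprimitive.of_prime_card
    rw [hcardS]; exact hp
  have hprim : IsPreprimitive G Ω := by
    let φ : fixingSubgroup G (x.support : Set Ω)ᶜ → G := fun g => g.1
    let f : SubMulAction.ofFixingSubgroup G (x.support : Set Ω)ᶜ →ₑ[φ] Ω :=
      { toFun := fun a => a.1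
        map_smul' := fun _ _ => rfl }
    refine IsPreprimitive.of_card_lt (f := f) ?_
    have h1 : (Set.range f).ncard = p := by
      rw [← hcardS, ← Nat.card_coe_set_eq]
      exact (Nat.card_range_of_injective (f := f) (fun a b h => Subtype.ext h))
    rw [h1, Nat.card_eq_fintype_card]
    exact hcard
  obtain ⟨n, hn⟩ : ∃ n, Fintype.card Ω - p = n + 1 := ⟨Fintype.card Ω - p - 1, by omega⟩
  have hs : ((x.support : Set Ω)ᶜ).ncard = n + 1 := by
    have h1 := Set.ncard_add_ncard_compl (x.support : Set Ω)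
    rw [Set.ncard_coe_finset, Nat.card_eq_fintype_card] at h1
    omega
  have h2 : IsMultiplyPretransitive G Ω 2 := by
    refine hprim.is_two_pretransitive hs ?_ ht2
    rw [Nat.card_eq_fintype_card]
    have := hp.two_le
    omega
  rw [is_two_pretransitive_iff] at h2
  obtain ⟨d, hd⟩ : ∃ d, d ∉ x.support := by
    by_contra hcon
    push Not at hcon
    exact hne (Finset.eq_univ_iff_forall.mpr hcon)
  have hcd : c ≠ d := fun h => hd (h ▸ hcx)
  obtain ⟨g, hg1, hg2⟩ := h2 hcd hcd.symm
  exact even_of_swap hcd hg1 hg2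

theorem isCycle_of_ofSubtype {α : Type*} {P : α → Prop} [DecidablePred P]
    {x : Perm {a // P a}} (h : (Perm.ofSubtype x).IsCycle) : x.IsCycle := by
  obtain ⟨a, ha, hall⟩ := h
  have hPa : P a := by
    by_contra hPa
    exact ha (Perm.ofSubtype_apply_of_not_mem _ hPa)
  refine ⟨⟨a, hPa⟩, ?_, ?_⟩
  · intro h
    apply ha
    rw [Perm.ofSubtype_apply_of_mem _ hPa, h]
  · rintro ⟨b, hb⟩ hxb
    have h1 : (Perm.ofSubtype x) b ≠ b := by
      rw [Perm.ofSubtype_apply_of_mem _ hb]
      intro h
      exact hxb (Subtype.ext h)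
    obtain ⟨i, hi⟩ := hall h1
    refine ⟨i, ?_⟩
    rw [← map_zpow, Perm.ofSubtype_apply_of_mem _ hPa] at hi
    exact Subtype.ext hi

/-- Two distinct overlapping cycles of the same prime length generate a group of even order. -/
theorem even_of_cycles {α : Type*} [Fintype α] [DecidableEq α] {H : Subgroup (Perm α)}
    {x y : Perm α} {p : ℕ} (hp : p.Prime) (hx : x.IsCycle) (hy : y.IsCycle)
    (hxc : x.support.card = p) (hyc : y.support.card = p) (hxH : x ∈ H) (hyH : y ∈ H)
    {c : α} (hcx : c ∈ x.support) (hcy : c ∈ y.support) (hne : x.support ≠ y.support) :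
    2 ∣ Nat.card H := by
  classical
  let P : α → Prop := fun a => a ∈ x.support ∨ a ∈ y.support
  have hPx : ∀ a, P (x a) ↔ P a := by
    intro a
    by_cases ha : a ∈ x.support
    · have : x a ∈ x.support := Perm.apply_mem_support.mpr ha
      exact ⟨fun _ => Or.inl ha, fun _ => Or.inl this⟩
    · rw [Perm.notMem_support.mp ha]
  have hPy : ∀ a, P (y a) ↔ P a := by
    intro a
    by_cases ha : a ∈ y.support
    · have : y a ∈ y.support := Perm.apply_mem_support.mpr ha
      exact ⟨fun _ => Or.inr ha, fun _ => Or.inr this⟩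
    · rw [Perm.notMem_support.mp ha]
  let x' : Perm {a // P a} := x.subtypePerm hPx
  let y' : Perm {a // P a} := y.subtypePerm hPy
  have hx'x : Perm.ofSubtype x' = x :=
    Perm.ofSubtype_subtypePerm _ (fun a ha => Or.inl (Perm.mem_support.mpr ha))
  have hy'y : Perm.ofSubtype y' = y :=
    Perm.ofSubtype_subtypePerm _ (fun a ha => Or.inr (Perm.mem_support.mpr ha))
  have hx's : ∀ a : {a // P a}, a ∈ x'.support ↔ (a : α) ∈ x.support := by
    intro a
    rw [Perm.mem_support, Perm.mem_support, Ne, Subtype.ext_iff]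
    rfl
  have hy's : ∀ a : {a // P a}, a ∈ y'.support ↔ (a : α) ∈ y.support := by
    intro a
    rw [Perm.mem_support, Perm.mem_support, Ne, Subtype.ext_iff]
    rfl
  have hx'c : x'.IsCycle := by
    apply isCycle_of_ofSubtype; rw [hx'x]; exact hx
  have hy'c : y'.IsCycle := by
    apply isCycle_of_ofSubtype; rw [hy'y]; exact hy
  have hx'card : x'.support.card = p := by
    rw [← hxc, ← hx'c.orderOf, ← hx.orderOf, ← hx'x]
    exact (orderOf_injective _ Perm.ofSubtype_injective _).symm
  have hy'card : y'.support.card = p := by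
    rw [← hyc, ← hy'c.orderOf, ← hy.orderOf, ← hy'y]
    exact (orderOf_injective _ Perm.ofSubtype_injective _).symm
  have h1 := even_of_cycles_cover (G := Subgroup.closure {x', y'}) hp hx'c hy'c hx'card hy'card
    (Subgroup.subset_closure (by simp)) (Subgroup.subset_closure (by simp))
    (c := ⟨c, Or.inl hcx⟩) ((hx's _).mpr hcx) ((hy's _).mpr hcy)
    (fun a => by rw [hx's, hy's]; exact a.2) (by
      intro h
      apply hne
      -- then y.support ⊆ x.support
      have h2 : y.support ⊆ x.support := by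
        intro a ha
        have : (⟨a, Or.inr ha⟩ : {a // P a}) ∈ x'.support := by rw [h]; exact Finset.mem_univ _
        exact (hx's _).mp this
      exact (Finset.eq_of_subset_of_card_le h2 (by omega)).symm)
  have h2 : (Subgroup.closure {x', y'}).map Perm.ofSubtype ≤ H := by
    rw [Subgroup.map_le_iff_le_comap, Subgroup.closure_le]
    rintro g (rfl | rfl)
    · change Perm.ofSubtype x' ∈ H
      rw [hx'x]; exact hxH
    · change Perm.ofSubtype y' ∈ H
      rw [hy'y]; exact hyH
  have h3 : Nat.card ((Subgroup.closure {x', y'}).map Perm.ofSubtype) =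
      Nat.card (Subgroup.closure {x', y'}) :=
    Nat.card_congr ((Subgroup.closure {x', y'}).equivMapOfInjective _
      Perm.ofSubtype_injective).toEquiv.symm
  rw [← h3] at h1
  exact h1.trans (Subgroup.card_dvd_of_le h2)

end Cfsg.Agent.H164
end

-- part: H164/HallTwoThree
section
/-!
If a subgroup of `Sym(α)` contains full Sylow subgroups for two primes, then it contains full
Sylow subgroups (or at least elements) for 2 and 3.
-/

set_option autoImplicit false

namespace Cfsg.Agent.H164

open Equiv MulAction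

section

variable {α : Type*} [Fintype α] [DecidableEq α]

theorem copy_isCycle {s : ℕ} (hs : 2 ≤ s) (ι : Fin s → α) (hι : Function.Injective ι)
    {h : Perm α} (h1 : ∀ x, h (ι x) = ι (finRotate s x)) (h2 : ∀ y, (∀ x, y ≠ ι x) → h y = y) :
    h.IsCycle ∧ h.support = Finset.univ.image ι := by
  classical
  have heq : h = (finRotate s).extendDomain (Equiv.ofInjective ι hι) := by
    ext y
    by_cases hy : ∃ x, y = ι x
    · obtain ⟨x, rfl⟩ := hy
      rw [h1]
      exact (Perm.extendDomain_apply_image (finRotate s) (Equiv.ofInjective ι hι) x).symm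
    · push Not at hy
      rw [h2 y hy, Perm.extendDomain_apply_not_subtype]
      rintro ⟨x, hx⟩
      exact hy x hx.symm
  constructor
  · rw [heq]
    exact (isCycle_finRotate_of_le hs).extendDomain _
  · ext y
    simp only [Perm.mem_support, Finset.mem_image, Finset.mem_univ, true_and]
    constructor
    · intro hy
      by_contra hcon
      push Not at hcon
      exact hy (h2 y (fun x hx => hcon x hx.symm))
    · rintro ⟨x, rfl⟩
      rw [h1]
      intro hcon
      have h3 : finRotate s x = x := hι hcon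
      have h4 : x ∈ (finRotate s).support := by
        rw [support_finRotate_of_le hs]; exact Finset.mem_univ _
      exact (Perm.mem_support.mp h4) h3

theorem isPGroup_zpowers_finRotate {r k : ℕ} (hr : r.Prime) (hk : 0 < k) :
    IsPGroup r (Subgroup.zpowers (finRotate (r ^ k))) := by
  have : Fact r.Prime := ⟨hr⟩
  have h2 : 2 ≤ r ^ k := by
    calc 2 ≤ r := hr.two_le
      _ = r ^ 1 := (pow_one r).symm
      _ ≤ r ^ k := Nat.pow_le_pow_right hr.pos hk
  rw [IsPGroup.iff_card]
  refine ⟨k, ?_⟩
  rw [Nat.card_zpowers, (isCycle_finRotate_of_le h2).orderOf, support_finRotate_of_le h2,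
    Finset.card_univ, Fintype.card_fin]

/-- Disjoint cycles of length `r ^ k`. -/
theorem exists_cycles {A H : Subgroup (Perm α)} {r k t : ℕ} (hr : r.Prime) (hk : 0 < k)
    (hidx : ¬ r ∣ H.relIndex A)
    (hA : ∀ Φ : Perm (Fin (r ^ k)) →* Perm α, (Subgroup.zpowers (finRotate (r ^ k))).map Φ ≤ A)
    (hts : t * r ^ k ≤ Fintype.card α) :
    ∃ ι : Fin t × Fin (r ^ k) → α, Function.Injective ι ∧ ∀ i, ∃ h ∈ H,
      h.IsCycle ∧ h.support = Finset.univ.image (fun x => ι (i, x)) := by
  have h2 : 2 ≤ r ^ k := by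
    calc 2 ≤ r := hr.two_le
      _ = r ^ 1 := (pow_one r).symm
      _ ≤ r ^ k := Nat.pow_le_pow_right hr.pos hk
  obtain ⟨ι, hι, hall⟩ := exists_copies hr hidx _ (isPGroup_zpowers_finRotate hr hk) hA hts
  refine ⟨ι, hι, fun i => ?_⟩
  obtain ⟨h, hH, h3, h4⟩ := hall i (finRotate (r ^ k)) (Subgroup.mem_zpowers _)
  refine ⟨h, hH, copy_isCycle h2 (fun x => ι (i, x)) ?_ h3 h4⟩
  intro x y hxy
  exact (Prod.ext_iff.mp (hι hxy)).2

/-- A single cycle of length `r ^ k`. -/
theorem exists_cycle {A H : Subgroup (Perm α)} {r k : ℕ} (hr : r.Prime) (hk : 0 < k)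
    (hidx : ¬ r ∣ H.relIndex A)
    (hA : ∀ Φ : Perm (Fin (r ^ k)) →* Perm α, (Subgroup.zpowers (finRotate (r ^ k))).map Φ ≤ A)
    (hts : r ^ k ≤ Fintype.card α) :
    ∃ h ∈ H, h.IsCycle ∧ h.support.card = r ^ k := by
  obtain ⟨ι, hι, hall⟩ := exists_cycles (t := 1) hr hk hidx hA (by rwa [one_mul])
  obtain ⟨h, hH, h1, h2⟩ := hall 0
  refine ⟨h, hH, h1, ?_⟩
  rw [h2, Finset.card_image_of_injective, Finset.card_univ, Fintype.card_fin]
  intro x y hxy
  exact (Prod.ext_iff.mp (hι hxy)).2

/-- support of a conjugate -/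
theorem support_conj (g h : Perm α) (x : α) :
    x ∈ (g * h * g⁻¹).support ↔ g⁻¹ x ∈ h.support := by
  simp only [Perm.mem_support, Perm.mul_apply]
  constructor
  · intro hx hcon
    apply hx
    rw [hcon]
    exact g.apply_symm_apply x
  · intro hx hcon
    apply hx
    rw [Perm.eq_inv_iff_eq]
    exact hcon

/-- (I.a) Two primes `p < q`: the order is even. -/
theorem even_of_two_primes {H : Subgroup (Perm α)} {p q : ℕ} (hp : p.Prime) (hq : q.Prime)
    (hpq : p < q) (hqn : q ≤ Fintype.card α) (hpi : ¬ p ∣ H.index) (hqi : ¬ q ∣ H.index) :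
    2 ∣ Nat.card H := by
  classical
  by_contra hodd
  have hp1 : p ^ 1 = p := pow_one p
  -- p-cycles
  obtain ⟨ι, hι, hall⟩ := exists_cycles (A := ⊤) (H := H) (t := Fintype.card α / p) hp one_pos
    (by rwa [Subgroup.relIndex_top_right]) (fun _ => le_top)
    (by rw [pow_one]; exact Nat.div_mul_le_self _ _)
  obtain ⟨z, hzH, hzc, hzs⟩ := exists_cycle (A := ⊤) (H := H) hq one_pos
    (by rwa [Subgroup.relIndex_top_right]) (fun _ => le_top) (by rwa [pow_one])
  rw [pow_one] at hzs
  -- z meets some block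
  have hmeet : ∃ a ∈ z.support, ∃ i x, ι (i, x) = a := by
    by_contra hcon
    push Not at hcon
    have h1 : Disjoint z.support (Finset.univ.image ι) := by
      rw [Finset.disjoint_left]
      intro a ha hb
      rw [Finset.mem_image] at hb
      obtain ⟨⟨i, x⟩, _, hx⟩ := hb
      exact hcon a ha i x hx
    have h2 := Finset.card_le_univ (z.support ∪ Finset.univ.image ι)
    rw [Finset.card_union_of_disjoint h1, Finset.card_image_of_injective _ hι, Finset.card_univ,
      Fintype.card_prod, Fintype.card_fin, Fintype.card_fin, pow_one, hzs] at h2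
    have h3 := Nat.div_add_mod (Fintype.card α) p
    have h4 := Nat.mod_lt (Fintype.card α) hp.pos
    have h5 : Fintype.card α / p * p = p * (Fintype.card α / p) := mul_comm _ _
    omega
  obtain ⟨a, haz, i, x, hix⟩ := hmeet
  obtain ⟨h, hH, hhc, hhs⟩ := hall i
  have hcard : h.support.card = p := by
    rw [hhs, Finset.card_image_of_injective, Finset.card_univ, Fintype.card_fin, pow_one]
    intro x y hxy
    exact (Prod.ext_iff.mp (hι hxy)).2
  refine cycle_block hq hzc hzs h.support (by rw [hcard]; exact hp.two_le)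
    (by rw [hcard]; exact hpq) (a := a) (by rw [hhs, ← hix]; simp) haz ?_
  rintro j ⟨x, hx1, hx2⟩ y hy
  have hg : z ^ j ∈ H := pow_mem hzH j
  have h6 : (z ^ j * h * (z ^ j)⁻¹) ∈ H := mul_mem (mul_mem hg hH) (inv_mem hg)
  have h7 : (z ^ j) x ∈ (z ^ j * h * (z ^ j)⁻¹).support := by
    rw [support_conj]
    have : ((z ^ j)⁻¹) ((z ^ j) x) = x := (z ^ j).symm_apply_apply x
    rw [this]; exact hx1
  have h8 : (z ^ j * h * (z ^ j)⁻¹).support = h.support := by
    by_contra hne
    exact hodd (even_of_cycles hp (hhc.conj) hhc (by rw [Perm.card_support_conj]; exact hcard)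
      hcard h6 hH h7 hx2 hne)
  have h9 : (z ^ j) y ∈ (z ^ j * h * (z ^ j)⁻¹).support := by
    rw [support_conj]
    have : ((z ^ j)⁻¹) ((z ^ j) y) = y := (z ^ j).symm_apply_apply y
    rw [this]; exact hy
  rw [h8] at h9
  exact h9

/-- The Klein four group on `Fin 4`. -/
def V4 : Subgroup (Perm (Fin 4)) where
  carrier := {1, swap 0 1 * swap 2 3, swap 0 2 * swap 1 3, swap 0 3 * swap 1 2}
  one_mem' := by simp
  mul_mem' := by
    rintro x y (rfl | rfl | rfl | rfl) (rfl | rfl | rfl | rfl) <;> decide +revert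
  inv_mem' := by
    rintro x (rfl | rfl | rfl | rfl) <;> decide +revert

theorem V4_swap : ∀ e f : Fin 4, e ≠ f → ∃ κ ∈ V4, κ e = f ∧ κ f = e := by
  have h1 : (1 : Perm (Fin 4)) ∈ V4 := V4.one_mem
  have h2 : (swap 0 1 * swap 2 3 : Perm (Fin 4)) ∈ V4 := by
    change _ ∈ ({1, swap 0 1 * swap 2 3, swap 0 2 * swap 1 3, swap 0 3 * swap 1 2} : Set _)
    simp
  have h3 : (swap 0 2 * swap 1 3 : Perm (Fin 4)) ∈ V4 := by
    change _ ∈ ({1, swap 0 1 * swap 2 3, swap 0 2 * swap 1 3, swap 0 3 * swap 1 2} : Set _)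
    simp
  have h4 : (swap 0 3 * swap 1 2 : Perm (Fin 4)) ∈ V4 := by
    change _ ∈ ({1, swap 0 1 * swap 2 3, swap 0 2 * swap 1 3, swap 0 3 * swap 1 2} : Set _)
    simp
  have key : ∀ e f : Fin 4, e ≠ f →
      ((swap 0 1 * swap 2 3 : Perm (Fin 4)) e = f ∧ (swap 0 1 * swap 2 3 : Perm (Fin 4)) f = e) ∨
      ((swap 0 2 * swap 1 3 : Perm (Fin 4)) e = f ∧ (swap 0 2 * swap 1 3 : Perm (Fin 4)) f = e) ∨
      ((swap 0 3 * swap 1 2 : Perm (Fin 4)) e = f ∧ (swap 0 3 * swap 1 2 : Perm (Fin 4)) f = e) := by
    decide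
  intro e f hef
  rcases key e f hef with h | h | h
  · exact ⟨_, h2, h⟩
  · exact ⟨_, h3, h⟩
  · exact ⟨_, h4, h⟩

theorem V4_le : V4 ≤ alternatingGroup (Fin 4) := by
  rintro x (rfl | rfl | rfl | rfl)
  · exact one_mem _
  · rw [Perm.mem_alternatingGroup]; decide
  · rw [Perm.mem_alternatingGroup]; decide
  · rw [Perm.mem_alternatingGroup]; decide

theorem V4_isPGroup : IsPGroup 2 V4 := by
  rintro ⟨x, hx⟩
  refine ⟨1, Subtype.ext ?_⟩
  change x ^ (2 ^ 1) = 1
  rcases hx with rfl | rfl | rfl | rfl <;> decide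

/-- (I.b) A subgroup containing a Sylow 2-subgroup of the alternating group and a cycle of prime
length `p ≥ 5` has order divisible by 3. -/
theorem three_dvd_of_two_and_cycle {H : Subgroup (Perm α)} {p : ℕ} (hp : p.Prime) (hp5 : 5 ≤ p)
    (h2i : ¬ 2 ∣ H.relIndex (alternatingGroup α)) {z : Perm α} (hzH : z ∈ H) (hzc : z.IsCycle)
    (hzs : z.support.card = p) : 3 ∣ Nat.card H := by
  classical
  by_contra h3
  obtain ⟨ι, hι, hall⟩ := exists_copies (A := alternatingGroup α) (H := H)
    (t := Fintype.card α / 4) (s := 4) Nat.prime_two h2i V4 V4_isPGroup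
    (fun Φ => (Subgroup.map_mono V4_le).trans (hom_map_alternating_le Φ))
    (Nat.div_mul_le_self _ _)
  have hmeet : ∃ a ∈ z.support, ∃ i x, ι (i, x) = a := by
    by_contra hcon
    push Not at hcon
    have h1 : Disjoint z.support (Finset.univ.image ι) := by
      rw [Finset.disjoint_left]
      intro a ha hb
      rw [Finset.mem_image] at hb
      obtain ⟨⟨i, x⟩, _, hx⟩ := hb
      exact hcon a ha i x hx
    have h2 := Finset.card_le_univ (z.support ∪ Finset.univ.image ι)
    rw [Finset.card_union_of_disjoint h1, Finset.card_image_of_injective _ hι, Finset.card_univ,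
      Fintype.card_prod, Fintype.card_fin, Fintype.card_fin, hzs] at h2
    omega
  obtain ⟨a, haz, i, x, hix⟩ := hmeet
  set X : Finset α := Finset.univ.image (fun x => ι (i, x)) with hX
  have hXmem : ∀ y, y ∈ X ↔ ∃ x, ι (i, x) = y := by
    intro y; simp [X]
  have hXcard : X.card = 4 := by
    rw [hX, Finset.card_image_of_injective, Finset.card_univ, Fintype.card_fin]
    intro x y hxy
    exact (Prod.ext_iff.mp (hι hxy)).2
  have hsw : ∀ e ∈ X, ∀ f ∈ X, e ≠ f → ∃ u ∈ H, u e = f ∧ u f = e ∧ ∀ y, y ∉ X → u y = y := by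
    intro e he f hf hef
    obtain ⟨x1, rfl⟩ := (hXmem e).mp he
    obtain ⟨x2, rfl⟩ := (hXmem f).mp hf
    obtain ⟨κ, hκ, hκ1, hκ2⟩ := V4_swap x1 x2 (fun h => hef (by rw [h]))
    obtain ⟨u, hu, hu1, hu2⟩ := hall i κ hκ
    refine ⟨u, hu, by rw [hu1, hκ1], by rw [hu1, hκ2], ?_⟩
    intro y hy
    apply hu2
    intro x hxy
    exact hy ((hXmem y).mpr ⟨x, hxy.symm⟩)
  refine cycle_block hp hzc hzs X (by omega) (by omega) (a := a) ((hXmem a).mpr ⟨x, hix⟩) haz ?_
  rintro j ⟨w, hw1, hw2⟩
  by_contra hcon
  push Not at hcon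
  obtain ⟨w', hw'1, hw'2⟩ := hcon
  set g : Perm α := z ^ j with hg
  have hgH : g ∈ H := pow_mem hzH j
  -- f ∈ X \ gX
  obtain ⟨f, hfX, hfg⟩ : ∃ f ∈ X, g⁻¹ f ∉ X := by
    by_contra hcon
    push Not at hcon
    -- g⁻¹ maps X into X, so bijectively
    have h1 : X.image (fun y => g⁻¹ y) ⊆ X := by
      intro y hy
      rw [Finset.mem_image] at hy
      obtain ⟨x, hx, rfl⟩ := hy
      exact hcon x hx
    have h2 : X.image (fun y => g⁻¹ y) = X := by
      apply Finset.eq_of_subset_of_card_le h1
      rw [Finset.card_image_of_injective _ (g⁻¹).injective]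
    have h4 : w' ∈ X.image (fun y => g⁻¹ y) := by rw [h2]; exact hw'1
    rw [Finset.mem_image] at h4
    obtain ⟨y, hy, hyw⟩ := h4
    apply hw'2
    rw [← hyw]
    have : g (g⁻¹ y) = y := g.apply_symm_apply y
    rw [this]; exact hy
  -- e = g w, e' = g w'
  have hef : g w ≠ f := by
    intro h
    apply hfg
    rw [← h]
    have : g⁻¹ (g w) = w := g.symm_apply_apply w
    rw [this]; exact hw1
  obtain ⟨u, huH, hu1, hu2, hu3⟩ := hsw (g w) hw2 f hfX hef
  have hww : w ≠ w' := by
    rintro rfl
    exact hw'2 hw2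
  obtain ⟨v, hvH, hv1, hv2, hv3⟩ := hsw w hw1 w' hw'1 hww
  have hvH' : g * v * g⁻¹ ∈ H := mul_mem (mul_mem hgH hvH) (inv_mem hgH)
  have key : 3 ∣ Nat.card H := by
    have hgv : ∀ y, (g * v * g⁻¹) (g y) = g (v y) := by
      intro y
      simp only [Perm.mul_apply]
      have : g⁻¹ (g y) = y := g.symm_apply_apply y
      rw [this]
    refine three_dvd_of_rot (G := H) (a := g w) (b := g w') (c := f)
      (fun h => hww (g.injective h))
      (g := (⟨u, huH⟩ : H) * ⟨g * v * g⁻¹, hvH'⟩) ?_ ?_ ?_
    · change u ((g * v * g⁻¹) (g w)) = g w'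
      rw [hgv, hv1, hu3 _ hw'2]
    · change u ((g * v * g⁻¹) (g w')) = f
      rw [hgv, hv2, hu1]
    · change u ((g * v * g⁻¹) f) = g w
      have h4 : (g * v * g⁻¹) f = f := by
        simp only [Perm.mul_apply]
        rw [hv3 _ hfg]
        exact g.apply_symm_apply f
      rw [h4, hu2]
  exact h3 key

end

end Cfsg.Agent.H164
end

-- part: H164/HallArith
section
/-!
Arithmetic used in the classification of the Hall subgroups of symmetric groups: if
`2 ≤ b ≤ a` and no prime `≤ a` divides `(a + b).choose b`, then `a = 4` and `b = 3`.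
-/

set_option autoImplicit false

namespace Cfsg.Agent.H164

/-- there are no carries when `a` and `b` are added in base `r` -/
def NoCarry (r a b : ℕ) : Prop := ∀ i : ℕ, a % r ^ i + b % r ^ i < r ^ i

theorem noCarry_of_not_dvd {r a b : ℕ} (hr : r.Prime) (h : ¬ r ∣ (a + b).choose b) :
    NoCarry r a b := by
  intro i
  have hfac : ((a + b).choose b).factorization r = 0 :=
    Nat.factorization_eq_zero_of_not_dvd h
  rw [Nat.factorization_choose' hr (b := max (Nat.log r (a + b) + 1) (i + 1))
    (lt_of_lt_of_le (Nat.lt_succ_self _) (le_max_left _ _)), Finset.card_eq_zero] at hfac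
  by_contra hcon
  push Not at hcon
  rcases Nat.eq_zero_or_pos i with rfl | hi
  · simp [Nat.mod_one] at hcon
  · have : i ∈ ({i ∈ Finset.Ico 1 (max (Nat.log r (a + b) + 1) (i + 1)) |
        r ^ i ≤ b % r ^ i + a % r ^ i} : Finset ℕ) := by
      simp only [Finset.mem_filter, Finset.mem_Ico]
      exact ⟨⟨hi, lt_of_lt_of_le (Nat.lt_succ_self _) (le_max_right _ _)⟩, by omega⟩
    rw [hfac] at this
    simp at this

theorem mod_of_dvd_add {m a c : ℕ} (hc : 0 < c) (hcm : c ≤ m) (h : m ∣ a + c) :
    a % m = m - c := by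
  obtain ⟨k, hk⟩ := h
  have hm : 0 < m := by omega
  have hk1 : 1 ≤ k := by
    rcases Nat.eq_zero_or_pos k with rfl | h
    · omega
    · exact h
  obtain ⟨k, rfl⟩ : ∃ j, k = j + 1 := ⟨k - 1, by omega⟩
  have : a = (m - c) + m * k := by
    have : m * (k + 1) = m * k + m := by ring
    omega
  rw [this, Nat.add_mul_mod_self_left, Nat.mod_eq_of_lt (by omega)]

theorem dvd_mul_pred_of_mod {m b : ℕ} (h : b % m ≤ 1) : m ∣ b * (b - 1) := by
  have h1 := Nat.div_add_mod b m
  rcases Nat.le_one_iff_eq_zero_or_eq_one.mp h with h0 | h0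
  · exact Dvd.dvd.mul_right (Nat.dvd_of_mod_eq_zero h0) _
  · rw [h0] at h1
    exact Dvd.dvd.mul_left ⟨b / m, by omega⟩ _

theorem aux0 {x y m : ℕ} (hm : 0 < m) (h1 : x + y < m) (h2 : x = m - 1) : y = 0 := by omega

/-- The arithmetic lemma. -/
theorem four_three {a b : ℕ} (hb : 2 ≤ b) (hab : b ≤ a)
    (h : ∀ r : ℕ, r.Prime → r ≤ a → NoCarry r a b) : a = 4 ∧ b = 3 := by
  -- `a + 1` is prime
  have hprime : (a + 1).Prime := by
    by_contra hnp
    have hdvd : a + 1 ∣ b := by
      rw [Nat.dvd_iff_prime_pow_dvd_dvd]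
      intro r k hr hk
      rcases Nat.eq_zero_or_pos k with rfl | hk0
      · simp
      have hra : r ≤ a := by
        have h1 : r ∣ a + 1 := dvd_trans (dvd_pow_self r (by omega)) hk
        have h2 : r ≤ a + 1 := Nat.le_of_dvd (by omega) h1
        rcases Nat.lt_or_ge r (a + 1) with h3 | h3
        · omega
        · exfalso; apply hnp; rw [← le_antisymm h2 h3]; exact hr
      have h1 := h r hr hra k
      have h2 : a % r ^ k = r ^ k - 1 := mod_of_dvd_add one_pos (Nat.one_le_pow _ _ hr.pos) hk
      have h3 : b % r ^ k = 0 := aux0 (pow_pos hr.pos k) h1 h2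
      exact Nat.dvd_of_mod_eq_zero h3
    have := Nat.le_of_dvd (by omega) hdvd
    omega
  -- `b ≠ a`
  have hne : b ≠ a := by
    rintro rfl
    have h1 := h 2 Nat.prime_two hb (Nat.log 2 b + 1)
    have h2 : b < 2 ^ (Nat.log 2 b + 1) := Nat.lt_pow_succ_log_self (by norm_num) b
    have h3 : 2 ^ Nat.log 2 b ≤ b := Nat.pow_log_le_self 2 (by omega)
    rw [Nat.mod_eq_of_lt h2, pow_succ] at h1
    omega
  have hlt : b < a := lt_of_le_of_ne hab hne
  -- `b + 1 ∣ a`
  have hb1 : b + 1 ∣ a := by
    rw [Nat.dvd_iff_prime_pow_dvd_dvd]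
    intro r k hr hk
    rcases Nat.eq_zero_or_pos k with rfl | hk0
    · simp
    have hra : r ≤ a := by
      have h1 : r ∣ b + 1 := dvd_trans (dvd_pow_self r (by omega)) hk
      have h2 : r ≤ b + 1 := Nat.le_of_dvd (by omega) h1
      omega
    have h1 := h r hr hra k
    have h2 : b % r ^ k = r ^ k - 1 := mod_of_dvd_add one_pos (Nat.one_le_pow _ _ hr.pos) hk
    have h3 : a % r ^ k = 0 := aux0 (pow_pos hr.pos k) (by rw [add_comm]; exact h1) h2
    exact Nat.dvd_of_mod_eq_zero h3
  have haodd : Odd (a + 1) := hprime.odd_of_ne_two (by omega)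
  have haeven : Even a := by
    rcases Nat.even_or_odd a with h1 | h1
    · exact h1
    · exfalso
      have := h1.add_one
      exact (Nat.not_even_iff_odd.mpr haodd) this
  obtain ⟨a', ha'⟩ := haeven
  -- `a + 2 ∣ b * (b - 1)`
  have ha2 : a + 2 ∣ b * (b - 1) := by
    rw [Nat.dvd_iff_prime_pow_dvd_dvd]
    intro r k hr hk
    rcases Nat.eq_zero_or_pos k with rfl | hk0
    · simp
    have hra : r ≤ a := by
      have h1 : r ∣ a + 2 := dvd_trans (dvd_pow_self r (by omega)) hk
      rcases hr.eq_two_or_odd' with rfl | hodd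
      · omega
      · have h2 : r ∣ 2 * (a' + 1) := by
          rw [show 2 * (a' + 1) = a + 2 by omega]; exact h1
        have h3 : r ∣ a' + 1 := by
          rcases (Nat.Prime.dvd_mul hr).mp h2 with h4 | h4
          · have := Nat.le_of_dvd (by norm_num) h4
            have := hr.two_le
            have : r = 2 := by omega
            subst this
            exact absurd hodd (by decide)
          · exact h4
        have := Nat.le_of_dvd (by omega) h3
        omega
    have h1 := h r hr hra k
    rcases Nat.lt_or_ge (r ^ k) 3 with h5 | h5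
    · have h6 : r ^ k = 2 := by
        have h7 : r ^ 1 ≤ r ^ k := Nat.pow_le_pow_right hr.pos hk0
        rw [pow_one] at h7
        have := hr.two_le
        omega
      rw [h6]
      exact even_iff_two_dvd.mp (Nat.even_mul_pred_self b)
    · have h2 : a % r ^ k = r ^ k - 2 := mod_of_dvd_add two_pos (by omega) hk
      exact dvd_mul_pred_of_mod (by omega)
  obtain ⟨t, ht⟩ := hb1
  have ht0 : t ≠ 0 := by
    rintro rfl
    omega
  rcases Nat.lt_or_ge t 2 with ht2 | ht2
  · -- `a = b + 1`
    have ht1 : t = 1 := by omega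
    subst ht1
    have hba : a = b + 1 := by omega
    have h12 : a + 2 ∣ 12 := by
      have h1 : ((a : ℤ) + 2) ∣ (b : ℤ) * (b - 1) := by
        have h2 : ((b * (b - 1) : ℕ) : ℤ) = (b : ℤ) * (b - 1) := by
          rw [Nat.cast_mul, Nat.cast_sub (by omega)]; simp
        rw [← h2]
        have : ((a : ℤ) + 2) = ((a + 2 : ℕ) : ℤ) := by push_cast; ring
        rw [this]
        exact Int.natCast_dvd_natCast.mpr ha2
      have h2 : ((a : ℤ) + 2) ∣ 12 := by
        have h3 : (12 : ℤ) = (b : ℤ) * (b - 1) - ((a : ℤ) + 2) * ((a : ℤ) - 5) := by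
          rw [hba]; push_cast; ring
        rw [h3]
        exact dvd_sub h1 (Dvd.intro _ rfl)
      have : ((a : ℤ) + 2) = ((a + 2 : ℕ) : ℤ) := by push_cast; ring
      rw [this] at h2
      exact_mod_cast h2
    have h13 : a ≤ 10 := by
      have := Nat.le_of_dvd (by norm_num) h12
      omega
    have hcases : a = 4 ∨ a = 10 := by
      interval_cases a <;> omega
    rcases hcases with h14 | h14
    · omega
    · exfalso
      have h15 := h 2 Nat.prime_two (by omega) 4
      have h16 : b = 9 := by omega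
      subst h14 h16
      norm_num at h15
  · -- `a = (b + 1) * t` with `t ≥ 2`
    exfalso
    obtain ⟨s, hs⟩ := ha2
    -- b (b-1) = (a+2) s
    have hbt : b = t + 2 := by
      -- work in integers
      have hsZ : (b : ℤ) * (b - 1) = ((b + 1) * t + 2) * s := by
        have h2 : ((b * (b - 1) : ℕ) : ℤ) = (b : ℤ) * (b - 1) := by
          rw [Nat.cast_mul, Nat.cast_sub (by omega)]; simp
        rw [← h2, hs, ht]; push_cast; ring
      have hs1 : 1 ≤ s := by
        rcases Nat.eq_zero_or_pos s with rfl | h1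
        · exfalso
          rw [mul_zero] at hs
          have : 0 < b * (b - 1) := Nat.mul_pos (by omega) (by omega)
          omega
        · exact h1
      have hdv : ((b : ℤ) + 1) ∣ 2 * (s - 1) := by
        refine ⟨(b : ℤ) - 2 - t * s, ?_⟩
        linear_combination (-1 : ℤ) * hsZ
      rcases Nat.lt_or_ge 1 s with h1 | h1
      · exfalso
        have h3 : (b : ℤ) + 1 ≤ 2 * (s - 1) := Int.le_of_dvd (by
          have : (1 : ℤ) < s := by exact_mod_cast h1
          linarith) hdv
        have h4 : (2 : ℤ) ≤ t := by exact_mod_cast ht2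
        have h5 : (2 : ℤ) ≤ b := by exact_mod_cast hb
        have h6 : (0 : ℤ) ≤ ((b : ℤ) + 1) * (t - 2) * s :=
          mul_nonneg (mul_nonneg (by linarith) (by linarith)) (Int.natCast_nonneg s)
        have h7 : ((b : ℤ) + 2) * (b + 1) ≤ (b + 2) * (2 * (s - 1)) :=
          mul_le_mul_of_nonneg_left h3 (by linarith)
        nlinarith
      · have h6 : s = 1 := by omega
        rw [h6] at hsZ
        have h7 : ((b : ℤ) + 1) * (b - t - 2) = 0 := by
          push_cast at hsZ
          linear_combination hsZ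
        have h8 : (b : ℤ) - t - 2 = 0 := by
          rcases mul_eq_zero.mp h7 with h9 | h9
          · have : (0 : ℤ) ≤ b := Int.natCast_nonneg b
            linarith
          · exact h9
        have h9 : (b : ℤ) = ((t + 2 : ℕ) : ℤ) := by push_cast; linarith
        exact_mod_cast h9
    -- `b + 2 ∣ a * (a - 1)`
    have hab2 : b + 2 ≤ a := by
      rw [ht]; nlinarith
    have hb2 : b + 2 ∣ a * (a - 1) := by
      rw [Nat.dvd_iff_prime_pow_dvd_dvd]
      intro r k hr hk
      rcases Nat.eq_zero_or_pos k with rfl | hk0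
      · simp
      have hra : r ≤ a := by
        have h1 : r ∣ b + 2 := dvd_trans (dvd_pow_self r (by omega)) hk
        have h2 : r ≤ b + 2 := Nat.le_of_dvd (by omega) h1
        omega
      have h1 := h r hr hra k
      rcases Nat.lt_or_ge (r ^ k) 3 with h5 | h5
      · have h6 : r ^ k = 2 := by
          have h7 : r ^ 1 ≤ r ^ k := Nat.pow_le_pow_right hr.pos hk0
          rw [pow_one] at h7
          have := hr.two_le
          omega
        rw [h6]
        exact even_iff_two_dvd.mp (Nat.even_mul_pred_self a)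
      · have h2 : b % r ^ k = r ^ k - 2 := mod_of_dvd_add two_pos (by omega) hk
        exact dvd_mul_pred_of_mod (by omega)
    have h12 : b + 2 ∣ 12 := by
      have h1 : ((b : ℤ) + 2) ∣ (a : ℤ) * (a - 1) := by
        have h2 : ((a * (a - 1) : ℕ) : ℤ) = (a : ℤ) * (a - 1) := by
          rw [Nat.cast_mul, Nat.cast_sub (by omega)]; simp
        rw [← h2]
        have : ((b : ℤ) + 2) = ((b + 2 : ℕ) : ℤ) := by push_cast; ring
        rw [this]
        exact Int.natCast_dvd_natCast.mpr hb2
      have haZ : (a : ℤ) = ((b : ℤ) + 2) * (b - 3) + 4 := by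
        rw [ht, hbt]; push_cast; ring
      have h2 : ((b : ℤ) + 2) ∣ 12 := by
        have h3 : (12 : ℤ) = (a : ℤ) * (a - 1) -
            ((b : ℤ) + 2) * (((b : ℤ) - 3) * (((b : ℤ) + 2) * (b - 3) + 7)) := by
          rw [haZ]; ring
        rw [h3]
        exact dvd_sub h1 (Dvd.intro _ rfl)
      have : ((b : ℤ) + 2) = ((b + 2 : ℕ) : ℤ) := by push_cast; ring
      rw [this] at h2
      exact_mod_cast h2
    have h13 : b ≤ 10 := by
      have := Nat.le_of_dvd (by norm_num) h12
      omega
    have hcases : b = 4 ∨ b = 10 := by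
      interval_cases b <;> omega
    rcases hcases with h14 | h14
    · have h15 : t = 2 := by omega
      subst h14 h15
      have h16 : a = 10 := by omega
      subst h16
      have h17 := h 7 (by norm_num) (by norm_num) 1
      norm_num at h17
    · have h15 : t = 8 := by omega
      subst h14 h15
      have h16 : a = 88 := by omega
      subst h16
      have h17 := h 7 (by norm_num) (by norm_num) 1
      norm_num at h17

end Cfsg.Agent.H164
end

-- part: H164/HallSym
section
/-!
Classification of the Hall `π`-subgroups of `Sym(α)` when `2, 3 ∈ π` and some prime `≤ |α|` is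
not in `π`.
-/

set_option autoImplicit false

namespace Cfsg.Agent.H164

open Equiv MulAction

section

universe u

variable {α : Type u} [Fintype α] [DecidableEq α]

/-- permutations preserving the finset `Δ` -/
def stabF (Δ : Finset α) : Subgroup (Perm α) where
  carrier := {g | ∀ x, g x ∈ Δ ↔ x ∈ Δ}
  one_mem' := by intro x; rfl
  mul_mem' := by
    intro g h hg hh x
    rw [Perm.mul_apply, hg, hh]
  inv_mem' := by
    intro g hg x
    rw [← hg (g⁻¹ x)]
    rw [show g (g⁻¹ x) = x from g.apply_symm_apply x]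

/-- permutations preserving the partition `{Δ, Δᶜ}` -/
def stabP (Δ : Finset α) : Subgroup (Perm α) where
  carrier := {g | (∀ x, g x ∈ Δ ↔ x ∈ Δ) ∨ (∀ x, g x ∈ Δ ↔ x ∉ Δ)}
  one_mem' := by left; intro x; rfl
  mul_mem' := by
    rintro g h (hg | hg) (hh | hh)
    · left; intro x; rw [Perm.mul_apply, hg, hh]
    · right; intro x; rw [Perm.mul_apply, hg, hh]
    · right; intro x; rw [Perm.mul_apply, hg, hh]
    · left; intro x; rw [Perm.mul_apply, hg, hh, not_not]
  inv_mem' := by
    rintro g (hg | hg)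
    · left
      intro x
      rw [← hg (g⁻¹ x)]
      rw [show g (g⁻¹ x) = x from g.apply_symm_apply x]
    · right
      intro x
      have h1 := hg (g⁻¹ x)
      rw [show g (g⁻¹ x) = x from g.apply_symm_apply x] at h1
      rw [h1, not_not]

theorem stabF_le_stabP (Δ : Finset α) : stabF Δ ≤ stabP Δ := fun _ hg => Or.inl hg

theorem card_stabF (Δ : Finset α) :
    Nat.card (stabF Δ) = Δ.card.factorial * (Fintype.card α - Δ.card).factorial := by
  have h1 : Nat.card (stabF Δ) = Fintype.card {g : Perm α // (fun x => decide (x ∈ Δ)) ∘ g =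
      (fun x => decide (x ∈ Δ))} := by
    rw [← Nat.card_eq_fintype_card]
    refine Nat.card_congr (Equiv.subtypeEquivRight fun g => ?_)
    change (∀ x, g x ∈ Δ ↔ x ∈ Δ) ↔ _
    rw [funext_iff]
    simp
  rw [h1, DomMulAct.stabilizer_card, Fintype.prod_bool]
  congr 2
  · rw [Fintype.card_subtype]; congr 1; ext x; simp
  · rw [Fintype.card_subtype]
    have : (Finset.univ.filter fun x => decide (x ∈ Δ) = false) = Δᶜ := by ext x; simp
    rw [this, Finset.card_compl]

theorem prime_dvd_stabP {Δ : Finset α} {r : ℕ} (hr : r.Prime) (h : r ∣ Nat.card (stabP Δ)) :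
    r = 2 ∨ r ≤ Δ.card ∨ r ≤ Fintype.card α - Δ.card := by
  rcases hr.eq_two_or_odd' with h2 | hodd
  · exact Or.inl h2
  right
  have : Fact r.Prime := ⟨hr⟩
  obtain ⟨⟨g, hg⟩, hord⟩ := exists_prime_orderOf_dvd_card' r h
  have hord' : orderOf g = r := by
    rw [← hord]; exact orderOf_injective (stabP Δ).subtype Subtype.val_injective ⟨g, hg⟩
  have hg2 : g ^ 2 ∈ stabF Δ := by
    rw [pow_two]
    rcases hg with hg | hg
    · exact mul_mem (show g ∈ stabF Δ from hg) (show g ∈ stabF Δ from hg)
    · intro x; rw [Perm.mul_apply, hg, hg, not_not]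
  have hcop : (2 : ℕ).Coprime (orderOf g) := by
    rw [hord']
    exact (Nat.Prime.coprime_iff_not_dvd Nat.prime_two).mpr
      (fun h => (Nat.not_even_iff_odd.mpr hodd) (even_iff_two_dvd.mpr h))
  obtain ⟨m, hm⟩ := exists_pow_eq_self_of_coprime hcop
  have hgF : g ∈ stabF Δ := by rw [← hm]; exact pow_mem hg2 m
  have h3 : r ∣ Nat.card (stabF Δ) := by
    rw [← hord']
    exact (Subgroup.orderOf_dvd_natCard _ hgF)
  rw [card_stabF, hr.dvd_mul, hr.dvd_factorial, hr.dvd_factorial] at h3
  exact h3

/-- the class of `a` for the relation `swap a b ∈ H` -/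
noncomputable def cls (H : Subgroup (Perm α)) (a : α) : Finset α :=
  letI := Classical.decPred (fun b : α => swap a b ∈ H)
  Finset.univ.filter (fun b => swap a b ∈ H)

theorem mem_cls {H : Subgroup (Perm α)} {a b : α} : b ∈ cls H a ↔ swap a b ∈ H := by
  simp [cls]

theorem self_mem_cls {H : Subgroup (Perm α)} (a : α) : a ∈ cls H a := by
  rw [mem_cls, swap_self]; exact H.one_mem

theorem swap_trans {H : Subgroup (Perm α)} {a b c : α} (h1 : swap a b ∈ H) (h2 : swap b c ∈ H) :
    swap a c ∈ H := SubmonoidClass.swap_mem_trans H h1 h2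

theorem cls_eq {H : Subgroup (Perm α)} {a b : α} (h : swap a b ∈ H) : cls H a = cls H b := by
  ext c
  rw [mem_cls, mem_cls]
  exact ⟨fun h1 => swap_trans (swap_comm a b ▸ h) h1, fun h1 => swap_trans h h1⟩

theorem cls_eq_of_mem {H : Subgroup (Perm α)} {a b : α} (h : b ∈ cls H a) : cls H b = cls H a :=
  (cls_eq (mem_cls.mp h)).symm

theorem cls_eq_or_disjoint {H : Subgroup (Perm α)} {a b : α} {c : α} (h1 : c ∈ cls H a)
    (h2 : c ∈ cls H b) : cls H a = cls H b := by
  rw [← cls_eq_of_mem h1, cls_eq_of_mem h2]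

theorem swap_conj_mem {H : Subgroup (Perm α)} {h : Perm α} (hh : h ∈ H) {a b : α} :
    swap (h a) (h b) ∈ H ↔ swap a b ∈ H := by
  have h1 : swap (h a) (h b) = h * swap a b * h⁻¹ := by
    rw [Equiv.swap_apply_apply]
  rw [h1]
  constructor
  · intro h2
    have h3 := mul_mem (mul_mem (inv_mem hh) h2) hh
    have h4 : h⁻¹ * (h * swap a b * h⁻¹) * h = swap a b := by group
    rwa [h4] at h3
  · intro h2
    exact mul_mem (mul_mem hh h2) (inv_mem hh)

theorem mem_cls_apply {H : Subgroup (Perm α)} {h : Perm α} (hh : h ∈ H) {a b : α} :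
    h b ∈ cls H (h a) ↔ b ∈ cls H a := by
  rw [mem_cls, mem_cls, swap_conj_mem hh]

theorem cls_apply {H : Subgroup (Perm α)} {h : Perm α} (hh : h ∈ H) (a : α) :
    cls H (h a) = (cls H a).map h.toEmbedding := by
  ext c
  rw [Finset.mem_map_equiv]
  have h1 := mem_cls_apply hh (a := a) (b := h.symm c)
  rw [show h (h.symm c) = c from h.apply_symm_apply c] at h1
  exact h1

theorem card_cls_apply {H : Subgroup (Perm α)} {h : Perm α} (hh : h ∈ H) (a : α) :
    (cls H (h a)).card = (cls H a).card := by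
  rw [cls_apply hh, Finset.card_map]

/-- the full symmetric group on a class is contained in `H` -/
theorem factorial_dvd_card {H : Subgroup (Perm α)} (a : α) :
    (cls H a).card.factorial ∣ Nat.card H := by
  have h1 : ((⊤ : Subgroup (Perm {b // b ∈ cls H a})).map Perm.ofSubtype) ≤ H := by
    rw [← Perm.closure_isSwap, Subgroup.map_le_iff_le_comap, Subgroup.closure_le]
    rintro _ ⟨x, y, _, rfl⟩
    change Perm.ofSubtype (swap x y) ∈ H
    rw [Perm.ofSubtype_swap_eq]
    have h1 := mem_cls.mp x.2
    have h2 := mem_cls.mp y.2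
    exact swap_trans (swap_comm a x ▸ h1) h2
  have h2 : Nat.card ((⊤ : Subgroup (Perm {b // b ∈ cls H a})).map Perm.ofSubtype) =
      (cls H a).card.factorial := by
    rw [Nat.card_congr ((⊤ : Subgroup (Perm {b // b ∈ cls H a})).equivMapOfInjective _
      Perm.ofSubtype_injective).toEquiv.symm, Subgroup.card_top, Nat.card_perm]
    congr 1
    rw [Nat.card_eq_fintype_card, Fintype.card_coe]
  rw [← h2]
  exact Subgroup.card_dvd_of_le h1

theorem prime_mem_of_le_cls {H : Subgroup (Perm α)} {π : Set ℕ} (hH : Cfsg.IsPiHall π H) {a : α}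
    {r : ℕ} (hr : r.Prime) (hra : r ≤ (cls H a).card) : r ∈ π :=
  hH.1 r hr (((hr.dvd_factorial).mpr hra).trans (factorial_dvd_card a))

/-- at most one singleton class -/
theorem few_singletons {H : Subgroup (Perm α)} (h2 : ¬ 2 ∣ H.index) {a b : α} (hab : a ≠ b) :
    2 ≤ (cls H a).card ∨ 2 ≤ (cls H b).card := by
  obtain ⟨ι, hι, hall⟩ := exists_cycles (A := ⊤) (H := H) (t := Fintype.card α / 2)
    Nat.prime_two one_pos (by rwa [Subgroup.relIndex_top_right]) (fun _ => le_top)
    (by rw [pow_one]; exact Nat.div_mul_le_self _ _)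
  have key : ∀ c, c ∈ Finset.univ.image ι → 2 ≤ (cls H c).card := by
    intro c hc
    rw [Finset.mem_image] at hc
    obtain ⟨⟨i, x⟩, _, hx⟩ := hc
    obtain ⟨h, hH, hc, hs⟩ := hall i
    have hcard : h.support.card = 2 := by
      rw [hs, Finset.card_image_of_injective, Finset.card_univ, Fintype.card_fin, pow_one]
      intro x y hxy
      exact (Prod.ext_iff.mp (hι hxy)).2
    obtain ⟨u, v, huv, rfl⟩ := Perm.card_support_eq_two.mp hcard
    have hcs : c ∈ (swap u v).support := by rw [hs, ← hx]; simp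
    rw [Perm.support_swap huv, Finset.mem_insert, Finset.mem_singleton] at hcs
    have : ({u, v} : Finset α) ⊆ cls H c := by
      intro w hw
      rw [Finset.mem_insert, Finset.mem_singleton] at hw
      rw [mem_cls]
      rcases hcs with rfl | rfl <;> rcases hw with rfl | rfl
      · rw [swap_self]; exact H.one_mem
      · exact hH
      · rw [swap_comm]; exact hH
      · rw [swap_self]; exact H.one_mem
    calc 2 = ({u, v} : Finset α).card := (Finset.card_pair huv).symm
      _ ≤ _ := Finset.card_le_card this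
  by_contra hcon
  push Not at hcon
  have ha : a ∉ Finset.univ.image ι := fun h => by have := key a h; omega
  have hb : b ∉ Finset.univ.image ι := fun h => by have := key b h; omega
  have hdis : Disjoint (Finset.univ.image ι) {a, b} := by
    rw [Finset.disjoint_right]
    intro c hc
    rw [Finset.mem_insert, Finset.mem_singleton] at hc
    rcases hc with rfl | rfl
    · exact ha
    · exact hb
  have h3 := Finset.card_le_univ (Finset.univ.image ι ∪ {a, b})
  rw [Finset.card_union_of_disjoint hdis, Finset.card_image_of_injective _ hι, Finset.card_univ,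
    Finset.card_pair hab, Fintype.card_prod, Fintype.card_fin, Fintype.card_fin, pow_one] at h3
  omega

/-- the cycle dichotomy -/
theorem cycle_dichotomy {H : Subgroup (Perm α)} {z : Perm α} (hzH : z ∈ H) (hz : z.IsCycle)
    {a : α} (ha : a ∈ z.support) :
    z.support ⊆ cls H a ∨
      (cls H a).card ∣ z.support.card ∧ (cls H a).card < z.support.card ∧
        (∀ b ∈ z.support, (cls H b).card = (cls H a).card) ∧ ∃ b, b ∈ z.support ∧ b ≠ a ∧
          b ∉ cls H a := by
  have horb : ∀ b ∈ z.support, ∃ i : ℕ, (z ^ i) a = b := fun b hb =>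
    hz.exists_pow_eq (Perm.mem_support.mp ha) (Perm.mem_support.mp hb)
  by_cases h1 : swap a (z a) ∈ H
  · left
    intro b hb
    obtain ⟨i, rfl⟩ := horb b hb
    have : ∀ i : ℕ, swap a ((z ^ i) a) ∈ H := by
      intro i
      induction i with
      | zero =>
        rw [pow_zero, Perm.one_apply, swap_self]
        exact H.one_mem
      | succ i ih =>
        rw [pow_succ', Perm.mul_apply]
        exact swap_trans h1 ((swap_conj_mem hzH).mpr ih)
    exact mem_cls.mpr (this i)
  · right
    -- for all b in support : swap b (z b) ∉ H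
    have h2 : ∀ b ∈ z.support, swap b (z b) ∉ H := by
      intro b hb hcon
      obtain ⟨i, rfl⟩ := horb b hb
      apply h1
      have h3 : z ((z ^ i) a) = (z ^ i) (z a) := by
        rw [← Perm.mul_apply, ← Perm.mul_apply, ← pow_succ', ← pow_succ]
      rw [h3] at hcon
      exact (swap_conj_mem (pow_mem hzH i)).mp hcon
    have h3 : ∀ b ∈ z.support, cls H b ⊆ z.support := by
      intro b hb c hc
      rw [Perm.mem_support]
      intro hzc
      apply h2 b hb
      have h4 : swap b c ∈ H := mem_cls.mp hc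
      have h5 : swap (z b) (z c) ∈ H := (swap_conj_mem hzH).mpr h4
      rw [hzc] at h5
      exact swap_trans h4 (swap_comm c (z b) ▸ h5)
    have h4 : ∀ b ∈ z.support, (cls H b).card = (cls H a).card := by
      intro b hb
      obtain ⟨i, rfl⟩ := horb b hb
      exact card_cls_apply (pow_mem hzH i) a
    refine ⟨?_, ?_, h4, ⟨z a, ?_, ?_, ?_⟩⟩
    · rw [Finset.card_eq_sum_card_image (fun b => cls H b) z.support]
      apply Finset.dvd_sum
      intro C hC
      rw [Finset.mem_image] at hC
      obtain ⟨b, hb, rfl⟩ := hC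
      have : (z.support.filter (fun x => cls H x = cls H b)) = cls H b := by
        ext x
        rw [Finset.mem_filter]
        constructor
        · rintro ⟨_, hx⟩
          rw [← hx]; exact self_mem_cls x
        · intro hx
          exact ⟨h3 b hb hx, cls_eq_of_mem hx⟩
      rw [this, h4 b hb]
    · apply Finset.card_lt_card
      rw [Finset.ssubset_iff_subset_ne]
      refine ⟨h3 a ha, ?_⟩
      intro heq
      have : z a ∈ cls H a := by rw [heq]; exact Perm.apply_mem_support.mpr ha
      exact h1 (mem_cls.mp this)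
    · exact Perm.apply_mem_support.mpr ha
    · exact Perm.mem_support.mp ha
    · intro hcon
      exact h1 (mem_cls.mp hcon)

/-- for a prime `r ∈ π`, `r ≤ n`, some class has size at least `r` -/
theorem exists_large_cls {H : Subgroup (Perm α)} (h2 : ¬ 2 ∣ H.index) {r : ℕ} (hr : r.Prime)
    (hri : ¬ r ∣ H.index) (hrn : r ≤ Fintype.card α) : ∃ a, r ≤ (cls H a).card := by
  obtain ⟨z, hzH, hzc, hzs⟩ := exists_cycle (A := ⊤) (H := H) hr one_pos
    (by rwa [Subgroup.relIndex_top_right]) (fun _ => le_top) (by rwa [pow_one])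
  rw [pow_one] at hzs
  obtain ⟨a, ha⟩ := Finset.card_pos.mp (by rw [hzs]; exact hr.pos : 0 < z.support.card)
  refine ⟨a, ?_⟩
  rcases cycle_dichotomy hzH hzc ha with h | ⟨h1, h3, h4, b, hb, hba, hbc⟩
  · rw [← hzs]; exact Finset.card_le_card h
  · exfalso
    rw [hzs] at h1 h3
    have h5 : (cls H a).card = 1 := by
      rcases (Nat.dvd_prime hr).mp h1 with h | h
      · exact h
      · omega
    have h6 := h4 b hb
    rcases few_singletons h2 hba with h7 | h7 <;> omega

end

end Cfsg.Agent.H164
end

-- part: H164/HallSymMain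
section
/-!
Main classification theorem for the Hall `π`-subgroups of `Sym(α)` when `2, 3 ∈ π` and some
prime `≤ |α|` is not in `π`: they are stabilisers of a point (`|α|` prime), of a 4-subset
(`|α| = 7`), or of a partition into two 4-subsets (`|α| = 8`).
-/

set_option autoImplicit false

namespace Cfsg.Agent.H164

open Equiv MulAction

section

universe u

variable {α : Type u} [Fintype α] [DecidableEq α]

theorem choose_dvd_index {H : Subgroup (Perm α)} {Δ : Finset α} (h : H ≤ stabF Δ) :
    (Fintype.card α).choose Δ.card ∣ H.index := by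
  refine dvd_trans ?_ (Subgroup.index_dvd_of_le h)
  have h1 := (stabF Δ).card_mul_index
  rw [card_stabF, Nat.card_perm, Nat.card_eq_fintype_card] at h1
  have h2 := Nat.choose_mul_factorial_mul_factorial (Finset.card_le_univ Δ)
  have h3 : (Fintype.card α).choose Δ.card *
      (Δ.card.factorial * (Fintype.card α - Δ.card).factorial) =
      (stabF Δ).index * (Δ.card.factorial * (Fintype.card α - Δ.card).factorial) := by
    rw [mul_comm (stabF Δ).index, h1, ← h2, mul_assoc]
  have h4 : 0 < Δ.card.factorial * (Fintype.card α - Δ.card).factorial :=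
    Nat.mul_pos (Nat.factorial_pos _) (Nat.factorial_pos _)
  rw [Nat.eq_of_mul_eq_mul_right h4 h3]

/-- the action of `H` on an invariant set of classes -/
@[reducible] def kappaAction (H : Subgroup (Perm α)) (κ : Finset (Finset α))
    (hκ : ∀ h ∈ H, ∀ C ∈ κ, C.map h.toEmbedding ∈ κ) : MulAction H {C // C ∈ κ} where
  smul h C := ⟨C.1.map (h : Perm α).toEmbedding, hκ _ h.2 _ C.2⟩
  one_smul C := by
    apply Subtype.ext
    ext x
    change x ∈ C.1.map (1 : Perm α).toEmbedding ↔ x ∈ C.1
    rw [Finset.mem_map_equiv]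
    rfl
  mul_smul g h C := by
    apply Subtype.ext
    change C.1.map ((g : Perm α) * h).toEmbedding =
      (C.1.map (h : Perm α).toEmbedding).map (g : Perm α).toEmbedding
    rw [Finset.map_map]
    rfl

theorem bell_dvd_index {H : Subgroup (Perm α)} {d : ℕ} (hd : 1 ≤ d) (Ω : Finset α)
    (hΩ : ∀ x, x ∈ Ω ↔ (cls H x).card = d) :
    ∃ m, Ω.card = m * d ∧ (Fintype.card α).choose Ω.card * Nat.uniformBell m d ∣ H.index := by
  classical
  set κ : Finset (Finset α) := Ω.image (cls H) with hκdef
  have hsub : ∀ x ∈ Ω, ∀ y ∈ cls H x, y ∈ Ω := by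
    intro x hx y hy
    rw [hΩ] at hx ⊢
    rw [cls_eq_of_mem hy, hx]
  have hfib : ∀ C ∈ κ, (Ω.filter (fun x => cls H x = C)) = C := by
    intro C hC
    rw [hκdef, Finset.mem_image] at hC
    obtain ⟨b, hb, rfl⟩ := hC
    ext x
    rw [Finset.mem_filter]
    constructor
    · rintro ⟨_, hx⟩
      rw [← hx]; exact self_mem_cls x
    · intro hx
      exact ⟨hsub b hb x hx, cls_eq_of_mem hx⟩
  have hcardC : ∀ C ∈ κ, C.card = d := by
    intro C hC
    rw [hκdef, Finset.mem_image] at hC
    obtain ⟨b, hb, rfl⟩ := hC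
    exact (hΩ b).mp hb
  have hΩcard : Ω.card = κ.card * d := by
    rw [Finset.card_eq_sum_card_image (cls H) Ω, ← hκdef,
      Finset.sum_congr rfl (fun C hC => by rw [hfib C hC, hcardC C hC]), Finset.sum_const,
      smul_eq_mul]
  refine ⟨κ.card, hΩcard, ?_⟩
  have hκinv : ∀ h ∈ H, ∀ C ∈ κ, C.map h.toEmbedding ∈ κ := by
    intro h hh C hC
    rw [hκdef, Finset.mem_image] at hC ⊢
    obtain ⟨b, hb, rfl⟩ := hC
    refine ⟨h b, ?_, cls_apply hh b⟩
    rw [hΩ] at hb ⊢
    rw [card_cls_apply hh, hb]
  let _inst := kappaAction H κ hκinv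
  let φ : H →* Perm {C // C ∈ κ} := MulAction.toPermHom H {C // C ∈ κ}
  -- the kernel
  let f : α → Finset α := fun x => if x ∈ Ω then cls H x else ∅
  have hker : Nat.card φ.ker ∣ (Fintype.card α - Ω.card).factorial * d.factorial ^ κ.card := by
    have h1 : Nat.card {g : Perm α // f ∘ g = f} =
        (Fintype.card α - Ω.card).factorial * d.factorial ^ κ.card := by
      rw [Nat.card_eq_fintype_card, DomMulAct.stabilizer_card']
      have h2 : Finset.univ.image f ⊆ insert ∅ κ := by
        intro C hC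
        rw [Finset.mem_image] at hC
        obtain ⟨x, _, rfl⟩ := hC
        simp only [f]
        split_ifs with hx
        · exact Finset.mem_insert_of_mem (Finset.mem_image_of_mem _ hx)
        · exact Finset.mem_insert_self _ _
      rw [Finset.prod_subset h2]
      · have hempty : (∅ : Finset α) ∉ κ := by
          intro h
          have := hcardC _ h
          rw [Finset.card_empty] at this
          omega
        rw [Finset.prod_insert hempty]
        congr 1
        · congr 1
          rw [Fintype.card_subtype, ← Finset.card_compl]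
          congr 1
          ext x
          simp only [f, Finset.mem_filter, Finset.mem_univ, true_and, Finset.mem_compl]
          constructor
          · intro hx hxΩ
            rw [if_pos hxΩ] at hx
            have := self_mem_cls (H := H) x
            rw [hx] at this
            exact absurd this (Finset.notMem_empty x)
          · intro hx
            rw [if_neg hx]
        · rw [Finset.prod_congr rfl (g := fun _ => d.factorial), Finset.prod_const]
          intro C hC
          congr 1
          rw [Fintype.card_subtype, ← hcardC C hC]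
          congr 1
          refine Eq.trans ?_ (hfib C hC)
          ext x
          simp only [f, Finset.mem_filter, Finset.mem_univ, true_and]
          constructor
          · intro hx
            split_ifs at hx with hxΩ
            · exact ⟨hxΩ, hx⟩
            · exfalso; rw [← hx] at hC; exact hempty hC
          · rintro ⟨hx, rfl⟩
            rw [if_pos hx]
      · intro C _ hC
        have : Fintype.card {a // f a = C} = 0 := by
          rw [Fintype.card_eq_zero_iff]
          refine ⟨fun x => hC ?_⟩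
          rw [← x.2]
          exact Finset.mem_image_of_mem _ (Finset.mem_univ _)
        rw [this, Nat.factorial_zero]
    rw [← h1]
    let S : Subgroup (Perm α) :=
      { carrier := {g | f ∘ g = f}
        one_mem' := rfl
        mul_mem' := by
          intro g h hg hh
          change f ∘ (g * h) = f
          rw [Perm.coe_mul, ← Function.comp_assoc, show f ∘ g = f from hg]
          exact hh
        inv_mem' := by
          intro g hg
          change f ∘ (g⁻¹ : Perm α) = f
          have hg' : f ∘ g = f := hg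
          nth_rewrite 1 [← hg']
          ext x : 1
          simp only [Function.comp_apply]
          rw [show g (g⁻¹ x) = x from g.apply_symm_apply x] }
    have h2 : (φ.ker.map H.subtype) ≤ S := by
      rintro _ ⟨h, hh, rfl⟩
      change f ∘ (h : Perm α) = f
      ext x : 1
      simp only [Function.comp_apply, f]
      have hxΩ : (h : Perm α) x ∈ Ω ↔ x ∈ Ω := by
        rw [hΩ, hΩ, card_cls_apply h.2]
      by_cases hx : x ∈ Ω
      · rw [if_pos hx, if_pos (hxΩ.mpr hx)]
        have h3 : φ h = 1 := hh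
        have h4 := congrArg (fun σ : Perm {C // C ∈ κ} =>
          ((σ ⟨cls H x, Finset.mem_image_of_mem _ hx⟩ : {C // C ∈ κ}) : Finset α)) h3
        have h5 : (cls H x).map (h : Perm α).toEmbedding = cls H x := h4
        rw [cls_apply h.2, h5]
      · rw [if_neg hx, if_neg (fun h => hx (hxΩ.mp h))]
    have h3 : Nat.card (φ.ker.map H.subtype) = Nat.card φ.ker :=
      Nat.card_congr (φ.ker.equivMapOfInjective _ H.subtype_injective).toEquiv.symm
    rw [← h3]
    exact Subgroup.card_dvd_of_le h2
  have hrange : Nat.card φ.range ∣ κ.card.factorial := by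
    have := Subgroup.card_subgroup_dvd_card φ.range
    rw [Nat.card_perm, Nat.card_eq_fintype_card (α := {C // C ∈ κ}), Fintype.card_coe] at this
    exact this
  have hH : Nat.card H = Nat.card φ.ker * Nat.card φ.range := by
    rw [← Subgroup.index_ker, Subgroup.card_mul_index]
  have hdvd : Nat.card H ∣ ((Fintype.card α - Ω.card).factorial * d.factorial ^ κ.card) *
      κ.card.factorial := by
    rw [hH]; exact Nat.mul_dvd_mul hker hrange
  obtain ⟨y, hy⟩ := hdvd
  have h1 := H.card_mul_index
  rw [Nat.card_perm, Nat.card_eq_fintype_card (α := α),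
    ← Nat.choose_mul_factorial_mul_factorial (Finset.card_le_univ Ω)] at h1
  have h2 : Ω.card.factorial = Nat.uniformBell κ.card d * d.factorial ^ κ.card *
      κ.card.factorial := by
    rw [hΩcard, Nat.uniformBell_mul_eq _ (by omega)]
  refine ⟨y, ?_⟩
  have hpos : 0 < Nat.card H := Nat.card_pos
  apply Nat.eq_of_mul_eq_mul_left hpos
  rw [h1, h2]
  calc _ = (Fintype.card α).choose Ω.card * Nat.uniformBell κ.card d *
      (((Fintype.card α - Ω.card).factorial * d.factorial ^ κ.card) * κ.card.factorial) := by ring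
    _ = _ := by rw [hy]; ring

/-- The classification. -/
theorem hall_sym {H : Subgroup (Perm α)} {π : Set ℕ} (hH : Cfsg.IsPiHall π H) (h2 : 2 ∈ π)
    (h3 : 3 ∈ π) {l : ℕ} (hl : l.Prime) (hln : l ≤ Fintype.card α) (hlπ : l ∉ π) :
    ∃ Δ : Finset α, H = stabP Δ ∧
      ((Δ.card + 1 = Fintype.card α ∧ (Fintype.card α).Prime ∧ 5 ≤ Fintype.card α ∧
          (∀ r : ℕ, r.Prime → r < Fintype.card α → r ∈ π) ∧ Fintype.card α ∉ π) ∨
        (Δ.card = 4 ∧ (Fintype.card α = 7 ∨ Fintype.card α = 8) ∧ 5 ∉ π ∧ 7 ∉ π)) := by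
  classical
  set n := Fintype.card α with hn
  have h2i : ¬ 2 ∣ H.index := hH.2 2 Nat.prime_two h2
  have hl5 : 5 ≤ l := by
    have h4 := hl.two_le
    by_contra hcon
    have : l = 2 ∨ l = 3 ∨ l = 4 := by omega
    rcases this with rfl | rfl | rfl
    · exact hlπ h2
    · exact hlπ h3
    · exact absurd hl (by decide)
  set k := Nat.log 2 n with hk
  have hk1 : 2 ^ k ≤ n := Nat.pow_log_le_self 2 (by omega)
  have hk2 : n < 2 ^ (k + 1) := Nat.lt_pow_succ_log_self (by norm_num) n
  have hk0 : 0 < k := Nat.log_pos (by norm_num) (by omega)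
  obtain ⟨z, hzH, hzc, hzs⟩ := exists_cycle (A := ⊤) (H := H) (k := k) Nat.prime_two hk0
    (by rwa [Subgroup.relIndex_top_right]) (fun _ => le_top) hk1
  have hkpos : 0 < 2 ^ k := pow_pos (by norm_num) k
  obtain ⟨a, ha⟩ := Finset.card_pos.mp (by rw [hzs]; exact hkpos : 0 < z.support.card)
  have hlt : ∀ x, (cls H x).card < l := by
    intro x
    by_contra hcon
    exact hlπ (prime_mem_of_le_cls hH hl (not_lt.mp hcon))
  rcases cycle_dichotomy hzH hzc ha with hA | ⟨hB1, hB2, hB3, b, hb, hba, hbc⟩
  · -- Case A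
    set Δ := cls H a with hΔ
    have hΔk : 2 ^ k ≤ Δ.card := by rw [← hzs]; exact Finset.card_le_card hA
    have hΔn : n < 2 * Δ.card := by
      rw [pow_succ] at hk2; omega
    have hΔl : Δ.card < l := hlt a
    have hΔle : Δ.card ≤ n := Finset.card_le_univ Δ
    have hHΔ : H ≤ stabF Δ := by
      intro h hh x
      have h4 : cls H (h a) = Δ := by
        have h5 : ∃ c, c ∈ cls H (h a) ∧ c ∈ Δ := by
          by_contra hcon
          push Not at hcon
          have h6 : Disjoint (cls H (h a)) Δ := Finset.disjoint_left.mpr hcon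
          have h7 := Finset.card_le_univ (cls H (h a) ∪ Δ)
          rw [Finset.card_union_of_disjoint h6, card_cls_apply hh, ← hΔ, ← hn] at h7
          omega
        obtain ⟨c, hc1, hc2⟩ := h5
        exact cls_eq_or_disjoint hc1 hc2
      have h5 := mem_cls_apply hh (a := a) (b := x)
      rw [h4] at h5
      exact h5
    have hidx := choose_dvd_index hHΔ
    rw [← hn] at hidx
    obtain ⟨b, hb⟩ : ∃ b, n = Δ.card + b := ⟨n - Δ.card, by omega⟩
    have hnc : ∀ r : ℕ, r.Prime → r ≤ Δ.card → NoCarry r Δ.card b := by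
      intro r hr hrle
      apply noCarry_of_not_dvd hr
      intro hdvd
      have h4 : (Δ.card + b).choose b = n.choose Δ.card := by
        rw [hb, Nat.choose_symm_add]
      rw [h4] at hdvd
      exact hH.2 r hr (prime_mem_of_le_cls hH hr hrle) (hdvd.trans hidx)
    have heq : H = stabP Δ := by
      apply hall_eq_of_le hH _ (hHΔ.trans (stabF_le_stabP Δ))
      intro r hr hrd
      rcases prime_dvd_stabP hr hrd with h4 | h4 | h4
      · rw [h4]; exact h2
      · exact prime_mem_of_le_cls hH hr h4
      · apply prime_mem_of_le_cls hH hr (a := a)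
        rw [← hΔ]
        omega
    refine ⟨Δ, heq, ?_⟩
    rcases Nat.lt_or_ge b 2 with hb2 | hb2
    · left
      have hb1 : b = 1 := by omega
      have hnl : n = l := by omega
      refine ⟨by omega, by rw [hnl]; exact hl, by omega, ?_, by rw [hnl]; exact hlπ⟩
      intro r hr hrn
      exact prime_mem_of_le_cls hH hr (a := a) (by rw [← hΔ]; omega)
    · right
      obtain ⟨h4, h5⟩ := four_three hb2 (by omega) hnc
      have hn7 : n = 7 := by omega
      have hlarge : ∀ r, r.Prime → 5 ≤ r → r ≤ 7 → r ∉ π := by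
        intro r hr hr5 hr7 hrπ
        obtain ⟨c, hc⟩ := exists_large_cls h2i hr (hH.2 r hr hrπ) (by omega)
        by_cases hcd : ∃ e, e ∈ cls H c ∧ e ∈ Δ
        · obtain ⟨e, he1, he2⟩ := hcd
          rw [cls_eq_or_disjoint he1 he2, ← hΔ] at hc
          omega
        · push Not at hcd
          have h6 : Disjoint (cls H c) Δ := Finset.disjoint_left.mpr hcd
          have h7 := Finset.card_le_univ (cls H c ∪ Δ)
          rw [Finset.card_union_of_disjoint h6, ← hn] at h7
          omega
      exact ⟨h4, Or.inl hn7, hlarge 5 (by norm_num) (by norm_num) (by norm_num),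
        hlarge 7 (by norm_num) (by norm_num) (by norm_num)⟩
  · -- Case B
    set d := (cls H a).card with hd
    rw [hzs] at hB1 hB2
    have hd1 : 1 ≤ d := Finset.card_pos.mpr ⟨a, self_mem_cls a⟩
    have hd2 : 2 ≤ d := by
      have h4 := hB3 b hb
      rcases few_singletons h2i hba with h5 | h5 <;> omega
    set Ω : Finset α := Finset.univ.filter (fun x => (cls H x).card = d) with hΩ
    have hΩmem : ∀ x, x ∈ Ω ↔ (cls H x).card = d := by intro x; simp [hΩ]
    have hΩk : 2 ^ k ≤ Ω.card := by
      rw [← hzs]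
      apply Finset.card_le_card
      intro x hx
      rw [hΩmem]
      exact hB3 x hx
    obtain ⟨m, hm, hdvd⟩ := bell_dvd_index hd1 Ω hΩmem
    rw [← hn] at hdvd
    have hΩn : Ω.card ≤ n := Finset.card_le_univ Ω
    have hm2 : 2 ≤ m := by
      by_contra hcon
      have : m = 0 ∨ m = 1 := by omega
      rcases this with rfl | rfl <;> omega
    have hbell : ∀ p < m, (p * d + d - 1).choose (d - 1) ∣ H.index := by
      intro p hp
      refine dvd_trans ?_ ((Nat.dvd_mul_left _ _).trans hdvd)
      rw [Nat.uniformBell_eq]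
      exact Finset.dvd_prod_of_mem _ (Finset.mem_range.mpr hp)
    have hd3 : d = 4 := by
      have h4 := hbell 1 (by omega)
      rw [one_mul] at h4
      have hne2 : d ≠ 2 := by
        intro h5
        rw [h5] at h4
        exact hH.2 3 Nat.prime_three h3 (by simpa using h4)
      have h5 : ∀ r : ℕ, r.Prime → r ≤ d → NoCarry r d (d - 1) := by
        intro r hr hrd
        apply noCarry_of_not_dvd hr
        intro hcon
        have h6 : d + (d - 1) = d + d - 1 := by omega
        rw [h6] at hcon
        exact hH.2 r hr (prime_mem_of_le_cls hH hr (a := a) hrd) (hcon.trans h4)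
      exact (four_three (by omega) (by omega) h5).1
    have hm3 : m = 2 := by
      by_contra hcon
      have h4 := hbell 2 (by omega)
      rw [hd3] at h4
      apply hH.2 3 Nat.prime_three h3
      refine dvd_trans ?_ h4
      decide
    have hΩ8 : Ω.card = 8 := by rw [hm, hm3, hd3]
    have hk3 : k ≤ 3 := by
      by_contra hcon
      have : 2 ^ 4 ≤ 2 ^ k := Nat.pow_le_pow_right (by norm_num) (by omega)
      omega
    have hn16 : n < 16 := by
      have : 2 ^ (k + 1) ≤ 2 ^ 4 := Nat.pow_le_pow_right (by norm_num) (by omega)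
      omega
    have hn8 : n = 8 := by
      have h4 : ¬ 3 ∣ n.choose 8 := by
        intro hcon
        apply hH.2 3 Nat.prime_three h3
        refine hcon.trans (dvd_trans ?_ hdvd)
        rw [hΩ8]
        exact Nat.dvd_mul_right _ _
      have hn8' : 8 ≤ n := by omega
      clear_value n
      interval_cases n
      · rfl
      all_goals exact absurd (by decide) h4
    have hall : ∀ x, (cls H x).card = 4 := by
      have h4 : Ω = Finset.univ := by
        apply Finset.eq_univ_of_card
        rw [hΩ8, ← hn, hn8]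
      intro x
      rw [← hd3, ← hΩmem, h4]
      exact Finset.mem_univ x
    have hHP : H ≤ stabP (cls H a) := by
      intro h hh
      by_cases hha : h a ∈ cls H a
      · left
        intro x
        have h5 := mem_cls_apply hh (a := a) (b := x)
        rw [cls_eq_of_mem hha] at h5
        exact h5
      · right
        have h4 : cls H (h a) = (cls H a)ᶜ := by
          apply Finset.eq_of_subset_of_card_le
          · intro c hc
            rw [Finset.mem_compl]
            intro hc2
            apply hha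
            rw [← cls_eq_or_disjoint hc hc2]
            exact self_mem_cls _
          · rw [Finset.card_compl, hall, hall, ← hn, hn8]
        intro x
        have h5 := mem_cls_apply hh (a := a) (b := x)
        rw [h4, Finset.mem_compl] at h5
        tauto
    have heq : H = stabP (cls H a) := by
      apply hall_eq_of_le hH _ hHP
      intro r hr hrd
      rcases prime_dvd_stabP hr hrd with h4 | h4 | h4
      · rw [h4]; exact h2
      · exact prime_mem_of_le_cls hH hr h4
      · apply prime_mem_of_le_cls hH hr (a := a)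
        rw [← hn, hn8, hall] at h4
        rw [hall]
        omega
    refine ⟨cls H a, heq, Or.inr ⟨hall a, Or.inr hn8, ?_, ?_⟩⟩
    · intro h5
      obtain ⟨c, hc⟩ := exists_large_cls h2i (r := 5) (by norm_num) (hH.2 5 (by norm_num) h5)
        (by omega)
      rw [hall c] at hc
      omega
    · intro h5
      obtain ⟨c, hc⟩ := exists_large_cls h2i (r := 7) (by norm_num) (hH.2 7 (by norm_num) h5)
        (by omega)
      rw [hall c] at hc
      omega

end

end Cfsg.Agent.H164
end

-- part: H164/HallAlt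
section
/-!
Hall `π`-subgroups of alternating groups with `2, 3 ∈ π` extend to Hall `π`-subgroups of the
symmetric group.
-/

set_option autoImplicit false

namespace Cfsg.Agent.H164

open Equiv MulAction

universe u

theorem sup_pi {G : Type u} [Group G] [Finite G] {π : Set ℕ} {H N : Subgroup G}
    (hle : H ≤ Subgroup.normalizer (N : Set G)) (hH : Cfsg.IsPiSubgroup π H)
    (hN : Cfsg.IsPiSubgroup π N) : Cfsg.IsPiSubgroup π (H ⊔ N) := by
  intro r hr hrd
  have h1 : Nat.card (H ⊔ N : Subgroup G) = Nat.card N * N.relIndex (H ⊔ N) := by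
    have h2 := (N.subgroupOf (H ⊔ N)).card_mul_index
    rw [← h2]
    congr 1
    exact Nat.card_congr (Subgroup.subgroupOfEquivOfLe (le_sup_right : N ≤ H ⊔ N)).toEquiv
  have h2 : N.relIndex (H ⊔ N) = N.relIndex H := by
    have := Subgroup.normal_subgroupOf_of_le_normalizer hle
    have := Subgroup.normal_subgroupOf_sup_of_le_normalizer hle
    exact Nat.card_congr
      (QuotientGroup.quotientInfEquivProdNormalizerQuotient H N hle).toEquiv.symm
  rw [h1, h2, hr.dvd_mul] at hrd
  rcases hrd with h | h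
  · exact hN r hr h
  · exact hH r hr (h.trans (Subgroup.relIndex_dvd_card _ _))

section

variable {α : Type u} [Fintype α] [DecidableEq α]

/-- the 3-cycle `a → b → c → a` -/
def cyc (a b c : α) : Perm α := swap a b * swap b c

theorem cyc_rot {a b c : α} (hab : a ≠ b) (hbc : b ≠ c) (hac : a ≠ c) :
    cyc b c a = cyc a b c := by
  ext x
  simp only [cyc, Perm.mul_apply, swap_apply_def]
  split_ifs <;> simp_all

theorem cyc_inv (a b c : α) : (cyc a b c)⁻¹ = cyc c b a := by
  rw [cyc, cyc, mul_inv_rev, swap_inv, swap_inv, swap_comm b c, swap_comm a b]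

theorem cyc_conj (h : Perm α) (a b c : α) : h * cyc a b c * h⁻¹ = cyc (h a) (h b) (h c) := by
  rw [cyc, cyc, swap_apply_apply, swap_apply_apply]
  group

theorem cyc_apply_left {a b c : α} (hab : a ≠ b) (hac : a ≠ c) : cyc a b c a = b := by
  rw [cyc, Perm.mul_apply, swap_apply_of_ne_of_ne hab hac, swap_apply_left]

theorem cyc_apply_mid {a b c : α} (hac : a ≠ c) (hbc : b ≠ c) : cyc a b c b = c := by
  rw [cyc, Perm.mul_apply, swap_apply_left, swap_apply_of_ne_of_ne hac.symm hbc.symm]

theorem cyc_apply_right (a b c : α) : cyc a b c c = a := by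
  rw [cyc, Perm.mul_apply, swap_apply_right, swap_apply_right]

theorem cyc_apply_of_ne {a b c x : α} (h1 : x ≠ a) (h2 : x ≠ b) (h3 : x ≠ c) :
    cyc a b c x = x := by
  rw [cyc, Perm.mul_apply, swap_apply_of_ne_of_ne h2 h3, swap_apply_of_ne_of_ne h1 h2]

theorem sign_cyc {a b c : α} (hab : a ≠ b) (hbc : b ≠ c) : Perm.sign (cyc a b c) = 1 := by
  rw [cyc, map_mul, Perm.sign_swap hab, Perm.sign_swap hbc]
  rfl

/-- `K` contains the 3-cycle `(a b c)` -/
structure T3 (K : Subgroup (Perm α)) (a b c : α) : Prop where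
  ab : a ≠ b
  bc : b ≠ c
  ac : a ≠ c
  mem : cyc a b c ∈ K

variable {K : Subgroup (Perm α)}

theorem T3.rot {a b c : α} (h : T3 K a b c) : T3 K b c a :=
  ⟨h.bc, h.ac.symm, h.ab.symm, by rw [cyc_rot h.ab h.bc h.ac]; exact h.mem⟩

theorem T3.rev {a b c : α} (h : T3 K a b c) : T3 K c b a :=
  ⟨h.bc.symm, h.ab.symm, h.ac.symm, by rw [← cyc_inv]; exact inv_mem h.mem⟩

theorem T3.swap12 {a b c : α} (h : T3 K a b c) : T3 K b a c := h.rot.rot.rev.rot.rot.rot
theorem T3.swap23 {a b c : α} (h : T3 K a b c) : T3 K a c b := h.rot.rev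

theorem T3.conj {a b c : α} (h : T3 K a b c) {g : Perm α} (hg : g ∈ K) :
    T3 K (g a) (g b) (g c) :=
  ⟨fun h' => h.ab (g.injective h'), fun h' => h.bc (g.injective h'),
    fun h' => h.ac (g.injective h'), by
      rw [← cyc_conj]; exact mul_mem (mul_mem hg h.mem) (inv_mem hg)⟩

theorem T3.two {a b c d : α} (h1 : T3 K a b c) (h2 : T3 K a b d) (hcd : c ≠ d) :
    T3 K b c d := by
  have h := h2.conj h1.mem
  rwa [cyc_apply_left h1.ab h1.ac, cyc_apply_mid h1.ac h1.bc,
    cyc_apply_of_ne h2.ac.symm h2.bc.symm hcd.symm] at h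

theorem T3.two' {a b c d : α} (h1 : T3 K a b c) (h2 : T3 K a b d) (hcd : c ≠ d) :
    T3 K a c d := T3.two h1.swap12 h2.swap12 hcd

theorem T3.three {a b c d e : α} (h1 : T3 K a b c) (h2 : T3 K a d e) (hbd : b ≠ d) (hbe : b ≠ e)
    (hcd : c ≠ d) (hce : c ≠ e) : T3 K d b c := by
  have h := h1.conj h2.mem
  rwa [cyc_apply_left h2.ab h2.ac, cyc_apply_of_ne h1.ab.symm hbd hbe,
    cyc_apply_of_ne h1.ac.symm hcd hce] at h

/-- the relation -/
def R3 (K : Subgroup (Perm α)) (a b : α) : Prop := a = b ∨ ∃ c, T3 K a b c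

theorem R3.refl (a : α) : R3 K a a := Or.inl rfl

theorem R3.symm {a b : α} (h : R3 K a b) : R3 K b a := by
  rcases h with rfl | ⟨c, hc⟩
  · exact Or.inl rfl
  · exact Or.inr ⟨c, hc.swap12⟩

/-- from `a ≈ b`, `a ≈ c` with `a, b, c` distinct get the 3-cycle `(a b c)` -/
theorem R3.full {a b c : α} (h1 : R3 K a b) (h2 : R3 K a c) (hab : a ≠ b) (hac : a ≠ c)
    (hbc : b ≠ c) : T3 K a b c := by
  rcases h1 with h1 | ⟨x, h1⟩
  · exact absurd h1 hab
  rcases h2 with h2 | ⟨y, h2⟩
  · exact absurd h2 hac
  by_cases hxc : x = c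
  · subst hxc; exact h1
  by_cases hyb : y = b
  · subst hyb; exact h2.swap23
  by_cases hxy : x = y
  · subst hxy
    exact T3.two' h1.swap23 h2.swap23 hbc
  · -- a b x, a c y
    have h3 : T3 K c b x := T3.three h1 h2 hbc (fun h => hyb h.symm) hxc hxy
    -- T b x a , T b x c
    have h4 : T3 K b x a := h1.rot
    have h5 : T3 K b x c := h3.rot
    exact (T3.two' h4 h5 hac).swap12

theorem R3.trans {a b c : α} (h1 : R3 K a b) (h2 : R3 K b c) : R3 K a c := by
  by_cases hab : a = b
  · subst hab; exact h2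
  by_cases hbc : b = c
  · subst hbc; exact h1
  by_cases hac : a = c
  · subst hac; exact R3.refl a
  · have h3 : T3 K b a c := R3.full h1.symm h2 (fun h => hab h.symm) hbc hac
    exact Or.inr ⟨b, h3.rot⟩

theorem R3.conj {a b : α} (h : R3 K a b) {g : Perm α} (hg : g ∈ K) : R3 K (g a) (g b) := by
  rcases h with rfl | ⟨c, hc⟩
  · exact Or.inl rfl
  · exact Or.inr ⟨g c, hc.conj hg⟩

/-- equivalence classes -/
noncomputable def cls3 (K : Subgroup (Perm α)) (a : α) : Finset α :=
  letI := Classical.decPred (fun b : α => R3 K a b)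
  Finset.univ.filter (fun b => R3 K a b)

theorem mem_cls3 {a b : α} : b ∈ cls3 K a ↔ R3 K a b := by simp [cls3]

theorem cls3_eq_iff {a b : α} : cls3 K a = cls3 K b ↔ R3 K a b := by
  constructor
  · intro h
    have : b ∈ cls3 K a := by rw [h, mem_cls3]; exact R3.refl b
    exact mem_cls3.mp this
  · intro h
    ext c
    rw [mem_cls3, mem_cls3]
    exact ⟨fun h1 => h.symm.trans h1, fun h1 => h.trans h1⟩

/-- the alternating group on a class is contained in `K` -/
theorem odd_prime_dvd_card {a : α} {r : ℕ} (hr : r.Prime) (hr2 : r ≠ 2)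
    (hra : r ≤ (cls3 K a).card) : r ∣ Nat.card K := by
  classical
  have h1 : (alternatingGroup {b // b ∈ cls3 K a}).map Perm.ofSubtype ≤ K := by
    rw [← Perm.closure_three_cycles_eq_alternating, Subgroup.map_le_iff_le_comap,
      Subgroup.closure_le]
    intro σ hσ
    change Perm.ofSubtype σ ∈ K
    obtain ⟨x, hx⟩ : ∃ x, x ∈ σ.support := by
      have := Perm.IsThreeCycle.card_support hσ
      exact Finset.card_pos.mp (by omega)
    have h2 := (Perm.IsThreeCycle.eq_swap_mul_swap_iff_mem_support hσ).mpr hx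
    have h3 := (Perm.IsThreeCycle.nodup_iff_mem_support hσ).mpr hx
    have h4 : Perm.ofSubtype σ = cyc (x : α) (σ x : α) (σ (σ x) : α) := by
      conv_lhs => rw [h2]
      rw [map_mul, Perm.ofSubtype_swap_eq, Perm.ofSubtype_swap_eq, cyc]
    rw [h4]
    simp only [List.nodup_cons, List.mem_cons, List.not_mem_nil, or_false, not_or,
      not_false_eq_true, List.nodup_nil, and_true] at h3
    obtain ⟨⟨h5, h6⟩, h7⟩ := h3
    have hx1 : R3 K a x := mem_cls3.mp x.2
    have hx2 : R3 K a (σ x) := mem_cls3.mp (σ x).2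
    have hx3 : R3 K a (σ (σ x)) := mem_cls3.mp (σ (σ x)).2
    exact (R3.full (hx1.symm.trans hx2) (hx1.symm.trans hx3) (fun h => h5 (Subtype.ext h))
      (fun h => h6 (Subtype.ext h)) (fun h => h7 (Subtype.ext h))).mem
  have h2 : Nat.card ((alternatingGroup {b // b ∈ cls3 K a}).map Perm.ofSubtype) =
      Nat.card (alternatingGroup {b // b ∈ cls3 K a}) :=
    Nat.card_congr ((alternatingGroup {b // b ∈ cls3 K a}).equivMapOfInjective _
      Perm.ofSubtype_injective).toEquiv.symm
  have h3 : r ∣ 2 * Nat.card (alternatingGroup {b // b ∈ cls3 K a}) := by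
    have : Nontrivial {b // b ∈ cls3 K a} := by
      rw [← Fintype.one_lt_card_iff_nontrivial, Fintype.card_coe]
      have := hr.two_le
      omega
    rw [two_mul_nat_card_alternatingGroup, Nat.card_perm, hr.dvd_factorial,
      Nat.card_eq_fintype_card, Fintype.card_coe]
    exact hra
  have h4 : r ∣ Nat.card (alternatingGroup {b // b ∈ cls3 K a}) := by
    rcases hr.dvd_mul.mp h3 with h | h
    · exfalso
      exact hr2 ((Nat.prime_dvd_prime_iff_eq hr Nat.prime_two).mp h)
    · exact h
  rw [← h2] at h4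
  exact h4.trans (Subgroup.card_dvd_of_le h1)

/-- even permutations preserving the classes -/
def DD (K : Subgroup (Perm α)) : Subgroup (Perm α) where
  carrier := {g | Perm.sign g = 1 ∧ ∀ x, R3 K x (g x)}
  one_mem' := ⟨map_one _, fun x => R3.refl x⟩
  mul_mem' := by
    rintro g h ⟨hg1, hg2⟩ ⟨hh1, hh2⟩
    exact ⟨by rw [map_mul, hg1, hh1, one_mul], fun x => (hh2 x).trans (hg2 (h x))⟩
  inv_mem' := by
    rintro g ⟨hg1, hg2⟩
    refine ⟨by rw [map_inv, hg1, inv_one], fun x => ?_⟩
    have h1 := (hg2 (g⁻¹ x)).symm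
    rwa [show g (g⁻¹ x) = x from g.apply_symm_apply x] at h1

theorem DD_pi {π : Set ℕ} (h2 : 2 ∈ π) (hK : Cfsg.IsPiSubgroup π K) :
    Cfsg.IsPiSubgroup π (DD K) := by
  classical
  intro r hr hrd
  by_cases hr2 : r = 2
  · rw [hr2]; exact h2
  let f : α → Finset α := cls3 K
  have h3 : Nat.card (DD K) ∣ Fintype.card {g : Perm α // f ∘ g = f} := by
    let S : Subgroup (Perm α) :=
      { carrier := {g | f ∘ g = f}
        one_mem' := rfl
        mul_mem' := by
          intro g h hg hh
          change f ∘ (g * h) = f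
          rw [Perm.coe_mul, ← Function.comp_assoc, show f ∘ g = f from hg]
          exact hh
        inv_mem' := by
          intro g hg
          change f ∘ (g⁻¹ : Perm α) = f
          have hg' : f ∘ g = f := hg
          nth_rewrite 1 [← hg']
          ext x : 1
          simp only [Function.comp_apply]
          rw [show g (g⁻¹ x) = x from g.apply_symm_apply x] }
    have h4 : DD K ≤ S := by
      rintro g ⟨_, hg⟩
      change f ∘ g = f
      ext x : 1
      exact cls3_eq_iff.mpr (hg x).symm
    have h5 := Subgroup.card_dvd_of_le h4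
    rw [← Nat.card_eq_fintype_card]
    exact h5
  have h4 := hrd.trans h3
  rw [DomMulAct.stabilizer_card', hr.prime.dvd_finsetProd_iff] at h4
  obtain ⟨C, hC, hrC⟩ := h4
  rw [Finset.mem_image] at hC
  obtain ⟨a, _, rfl⟩ := hC
  rw [hr.dvd_factorial] at hrC
  have h5 : Fintype.card {b // f b = f a} = (cls3 K a).card := by
    rw [Fintype.card_subtype]
    congr 1
    ext b
    rw [Finset.mem_filter, mem_cls3]
    simp only [Finset.mem_univ, true_and, f]
    rw [cls3_eq_iff]
    exact ⟨fun h => h.symm, fun h => h.symm⟩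
  rw [h5] at hrC
  exact hK r hr (odd_prime_dvd_card hr hr2 hrC)

/-- `K` normalises `DD K` -/
theorem le_normalizer_DD : K ≤ Subgroup.normalizer (DD K : Set (Perm α)) := by
  have key : ∀ k ∈ K, ∀ d ∈ DD K, k * d * k⁻¹ ∈ DD K := by
    rintro k hk d ⟨hd1, hd2⟩
    refine ⟨?_, fun x => ?_⟩
    · rw [map_mul, map_mul, hd1, mul_one, map_inv, mul_inv_cancel]
    · have h1 := (hd2 (k⁻¹ x)).conj hk
      rwa [show k (k⁻¹ x) = x from k.apply_symm_apply x] at h1
  intro k hk
  rw [Subgroup.mem_normalizer_iff]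
  intro d
  constructor
  · intro hd; exact key k hk d hd
  · intro hd
    have h1 := key k⁻¹ (inv_mem hk) _ hd
    have h2 : k⁻¹ * (k * d * k⁻¹) * k⁻¹⁻¹ = d := by group
    rwa [h2] at h1

/-- Hall subgroups of the alternating group, as subgroups of the symmetric group -/
structure HallAltSub (π : Set ℕ) (K : Subgroup (Perm α)) : Prop where
  le : K ≤ alternatingGroup α
  pi : Cfsg.IsPiSubgroup π K
  idx : ∀ p : ℕ, p.Prime → p ∈ π → ¬ p ∣ K.relIndex (alternatingGroup α)

theorem HallAltSub.eq_of_le {π : Set ℕ} (hK : HallAltSub π K) {L : Subgroup (Perm α)}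
    (hL : Cfsg.IsPiSubgroup π L) (hle : K ≤ L) (hLA : L ≤ alternatingGroup α) : K = L := by
  have h1 : K.relIndex L = 1 := by
    by_contra hne
    obtain ⟨r, hr, hrd⟩ := Nat.exists_prime_and_dvd hne
    have h2 : K.relIndex L ∣ Nat.card L := Subgroup.relIndex_dvd_card _ _
    have h3 : K.relIndex L ∣ K.relIndex (alternatingGroup α) := by
      rw [← Subgroup.relIndex_mul_relIndex K L _ hle hLA]
      exact Nat.dvd_mul_right _ _
    exact hK.idx r hr (hL r hr (hrd.trans h2)) (hrd.trans h3)
  exact le_antisymm hle (Subgroup.relIndex_eq_one.mp h1)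

theorem DD_le {π : Set ℕ} (hK : HallAltSub π K) (h2 : 2 ∈ π) : DD K ≤ K := by
  have h1 : K = K ⊔ DD K := by
    apply hK.eq_of_le (sup_pi le_normalizer_DD hK.pi (DD_pi h2 hK.pi)) le_sup_left
    rw [sup_le_iff]
    refine ⟨hK.le, ?_⟩
    rintro g ⟨hg, _⟩
    exact Perm.mem_alternatingGroup.mpr hg
  exact (le_sup_right : DD K ≤ K ⊔ DD K).trans h1.symm.le

theorem exists_hall_extension {π : Set ℕ} (hK : HallAltSub π K) (h2 : 2 ∈ π) (h3 : 3 ∈ π)
    (hn : 3 ≤ Fintype.card α) :
    ∃ H : Subgroup (Perm α), Cfsg.IsPiHall π H ∧ H ⊓ alternatingGroup α = K ∧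
      ∃ t ∈ H, Perm.sign t = -1 := by
  classical
  -- a 3-cycle in K
  obtain ⟨z, hzK, hzc, hzs⟩ := exists_cycle (A := alternatingGroup α) (H := K)
    Nat.prime_three one_pos (hK.idx 3 Nat.prime_three h3) (by
      intro Φ
      refine (Subgroup.map_mono ?_).trans (hom_map_alternating_le Φ)
      rw [Subgroup.zpowers_le, Perm.mem_alternatingGroup, sign_finRotate]
      rfl) (by rwa [pow_one])
  rw [pow_one] at hzs
  have hz3 : z.IsThreeCycle := card_support_eq_three_iff.mp hzs
  obtain ⟨a, ha⟩ : ∃ x, x ∈ z.support := Finset.card_pos.mp (by omega)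
  have hz1 := (Perm.IsThreeCycle.eq_swap_mul_swap_iff_mem_support hz3).mpr ha
  have hz2 := (Perm.IsThreeCycle.nodup_iff_mem_support hz3).mpr ha
  simp only [List.nodup_cons, List.mem_cons, List.not_mem_nil, or_false, not_or,
    not_false_eq_true, List.nodup_nil, and_true] at hz2
  obtain ⟨⟨h5, h6⟩, h7⟩ := hz2
  set b := z a with hb
  set c := z b with hc
  have hT : T3 K a b c := ⟨h5, h7, h6, by rw [cyc, ← hz1]; exact hzK⟩
  have hab : R3 K a b := Or.inr ⟨c, hT⟩
  set t : Perm α := swap a b with ht
  have htt : t * t = 1 := swap_mul_self a b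
  have htR : ∀ x, R3 K x (t x) := by
    intro x
    by_cases hxa : x = a
    · rw [hxa, ht, swap_apply_left]; exact hab
    by_cases hxb : x = b
    · rw [hxb, ht, swap_apply_right]; exact hab.symm
    rw [ht, swap_apply_of_ne_of_ne hxa hxb]; exact R3.refl x
  have hsignt : Perm.sign t = -1 := Perm.sign_swap h5
  have hDD := DD_le hK h2
  -- t normalises K
  have htK : ∀ k ∈ K, t * k * t ∈ K := by
    intro k hk
    have h8 : t * (k * t * k⁻¹) ∈ K := by
      apply hDD
      refine ⟨?_, fun x => ?_⟩
      · rw [map_mul, map_mul, map_mul, map_inv, hsignt]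
        have : Perm.sign k = 1 := Perm.mem_alternatingGroup.mp (hK.le hk)
        rw [this]; rfl
      · have h9 : R3 K x ((k * t * k⁻¹) x) := by
          have h1 := (htR (k⁻¹ x)).conj hk
          rwa [show k (k⁻¹ x) = x from k.apply_symm_apply x] at h1
        exact h9.trans (htR _)
    have h9 : t * k * t = (t * (k * t * k⁻¹)) * k := by group
    rw [h9]; exact mul_mem h8 hk
  let H : Subgroup (Perm α) :=
    { carrier := {g | g ∈ K ∨ t * g ∈ K}
      one_mem' := Or.inl (one_mem K)
      mul_mem' := by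
        rintro g h (hg | hg) (hh | hh)
        · exact Or.inl (mul_mem hg hh)
        · right
          have : t * (g * h) = (t * g * t) * (t * h) := by
            calc t * (g * h) = t * g * 1 * h := by group
              _ = _ := by rw [← htt]; group
          rw [this]; exact mul_mem (htK g hg) hh
        · right
          rw [← mul_assoc]; exact mul_mem hg hh
        · left
          have : g * h = (t * (t * g) * t) * (t * h) := by
            calc g * h = 1 * g * 1 * h := by group
              _ = _ := by rw [← htt]; group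
          rw [this]; exact mul_mem (htK _ hg) hh
      inv_mem' := by
        rintro g (hg | hg)
        · exact Or.inl (inv_mem hg)
        · right
          have h1 : t * ((t * g)⁻¹) * t = t * g⁻¹ := by
            have : t⁻¹ = t := inv_eq_of_mul_eq_one_left htt
            rw [mul_inv_rev, this]
            calc t * (g⁻¹ * t) * t = t * g⁻¹ * (t * t) := by group
              _ = _ := by rw [htt, mul_one]
          rw [← h1]; exact htK _ (inv_mem hg) }
  have hKH : K ≤ H := fun g hg => Or.inl hg
  have htH : t ∈ H := by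
    right; rw [htt]; exact one_mem K
  have hHA : H ⊓ alternatingGroup α = K := by
    apply le_antisymm
    · rintro g ⟨hg | hg, hgA⟩
      · exact hg
      · exfalso
        have h1 : Perm.sign (t * g) = 1 := Perm.mem_alternatingGroup.mp (hK.le hg)
        rw [map_mul, hsignt, Perm.mem_alternatingGroup.mp hgA] at h1
        exact absurd h1 (by decide)
    · exact le_inf hKH hK.le
  have hnt : Nontrivial α := Fintype.one_lt_card_iff_nontrivial.mp (by omega)
  have hAi : (alternatingGroup α).index = 2 := alternatingGroup.index_eq_two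
  have hrel : (alternatingGroup α).relIndex H = 2 := by
    have h1 : (alternatingGroup α).relIndex H ∣ 2 := by
      rw [← hAi]; exact Subgroup.relIndex_dvd_index_of_normal _ _
    rcases (Nat.dvd_prime Nat.prime_two).mp h1 with h | h
    · exfalso
      rw [Subgroup.relIndex_eq_one] at h
      have := Perm.mem_alternatingGroup.mp (h htH)
      rw [hsignt] at this
      exact absurd this (by decide)
    · exact h
  have hKrel : K.relIndex H = 2 := by
    rw [← hHA, Subgroup.inf_relIndex_left, hrel]
  have hidx : H.index = K.relIndex (alternatingGroup α) := by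
    have h1 := Subgroup.relIndex_mul_index hKH
    have h2 := Subgroup.relIndex_mul_index hK.le
    rw [← h2, hKrel, hAi] at h1
    omega
  refine ⟨H, ⟨?_, ?_⟩, hHA, t, htH, hsignt⟩
  · intro r hr hrd
    have h1 : Nat.card H = Nat.card K * 2 := by
      rw [← hKrel]
      have := (K.subgroupOf H).card_mul_index
      rw [← this]
      congr 1
      exact (Nat.card_congr (Subgroup.subgroupOfEquivOfLe hKH).toEquiv)
    rw [h1, hr.dvd_mul] at hrd
    rcases hrd with h | h
    · exact hK.pi r hr h
    · rw [(Nat.prime_dvd_prime_iff_eq hr Nat.prime_two).mp h]; exact h2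
  · intro r hr hrπ hrd
    rw [hidx] at hrd
    exact hK.idx r hr hrπ hrd

end

end Cfsg.Agent.H164
end

-- part: H164/HallFinal
section
/-!
`E_π` and `C_π` for symmetric and alternating groups.
-/

set_option autoImplicit false

namespace Cfsg.Agent.H164

open Equiv MulAction

universe u

section

variable {α : Type u} [Fintype α] [DecidableEq α]

theorem hallAltSub_map {π : Set ℕ} {K : Subgroup (alternatingGroup α)}
    (hK : Cfsg.IsPiHall π K) : HallAltSub π (K.map (alternatingGroup α).subtype) := by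
  refine ⟨?_, ?_, ?_⟩
  · rintro _ ⟨k, _, rfl⟩
    exact k.2
  · intro r hr hrd
    rw [Nat.card_congr (K.equivMapOfInjective _
      (alternatingGroup α).subtype_injective).toEquiv.symm] at hrd
    exact hK.1 r hr hrd
  · intro r hr hrπ hrd
    have : (K.map (alternatingGroup α).subtype).relIndex (alternatingGroup α) = K.index := by
      have h1 : (K.map (alternatingGroup α).subtype).subgroupOf (alternatingGroup α) = K :=
        Subgroup.comap_map_eq_self_of_injective (alternatingGroup α).subtype_injective K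
      rw [Subgroup.relIndex, h1]
    rw [this] at hrd
    exact hK.2 r hr hrπ hrd

theorem isPiHall_subgroupOf {π : Set ℕ} {K : Subgroup (Perm α)} (hK : HallAltSub π K) :
    Cfsg.IsPiHall π (K.subgroupOf (alternatingGroup α)) := by
  refine ⟨?_, hK.idx⟩
  intro r hr hrd
  rw [Nat.card_congr (Subgroup.subgroupOfEquivOfLe hK.le).toEquiv] at hrd
  exact hK.pi r hr hrd

theorem inf_hall [Nontrivial α] {π : Set ℕ} {H : Subgroup (Perm α)} (hH : Cfsg.IsPiHall π H) :
    HallAltSub π (H ⊓ alternatingGroup α) := by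
  refine ⟨inf_le_right, isPiSubgroup_mono inf_le_left hH.1, ?_⟩
  intro r hr hrπ hrd
  have hAi : (alternatingGroup α).index = 2 := alternatingGroup.index_eq_two
  have h1 := Subgroup.relIndex_mul_index (inf_le_right : H ⊓ alternatingGroup α ≤ _)
  have h2 := Subgroup.relIndex_mul_index (inf_le_left : H ⊓ alternatingGroup α ≤ H)
  rw [Subgroup.inf_relIndex_left] at h2
  rw [← h2, hAi] at h1
  have h3 : (alternatingGroup α).relIndex H ∣ 2 := by
    rw [← hAi]; exact Subgroup.relIndex_dvd_index_of_normal _ _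
  rcases (Nat.dvd_prime Nat.prime_two).mp h3 with h | h
  · rw [h, one_mul] at h1
    apply hH.2 r hr hrπ
    rw [← h1]
    exact Dvd.dvd.mul_right hrd _
  · rw [h, mul_comm 2] at h1
    apply hH.2 r hr hrπ
    rw [← Nat.eq_of_mul_eq_mul_right two_pos h1]
    exact hrd

theorem two_three_mem {π : Set ℕ} {K : Subgroup (Perm α)} (hK : HallAltSub π K) {p q : ℕ}
    (hp : p.Prime) (hq : q.Prime) (hpq : p < q) (hpπ : p ∈ π) (hqπ : q ∈ π)
    (hqn : q ≤ Fintype.card α) : 2 ∈ π ∧ 3 ∈ π := by
  have hq3 : 3 ≤ q := by have := hp.two_le; omega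
  have hnt : Nontrivial α := Fintype.one_lt_card_iff_nontrivial.mp (by omega)
  have hAi : (alternatingGroup α).index = 2 := alternatingGroup.index_eq_two
  have h2 : 2 ∈ π := by
    by_contra h2
    have h1 := Subgroup.relIndex_mul_index hK.le
    rw [hAi] at h1
    have hndvd : ∀ r : ℕ, r.Prime → r ∈ π → ¬ r ∣ K.index := by
      intro r hr hrπ hrd
      rw [← h1, hr.dvd_mul] at hrd
      rcases hrd with h | h
      · exact hK.idx r hr hrπ h
      · rw [(Nat.prime_dvd_prime_iff_eq hr Nat.prime_two).mp h] at hrπ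
        exact h2 hrπ
    exact h2 (hK.pi 2 Nat.prime_two
      (even_of_two_primes hp hq hpq hqn (hndvd p hp hpπ) (hndvd q hq hqπ)))
  refine ⟨h2, ?_⟩
  by_cases hq3' : q = 3
  · rw [← hq3']; exact hqπ
  have hq5 : 5 ≤ q := by
    by_contra hcon
    have : q = 4 := by omega
    rw [this] at hq
    exact absurd hq (by decide)
  obtain ⟨z, hzK, hzc, hzs⟩ := exists_cycle (A := alternatingGroup α) (H := K)
    hq one_pos (hK.idx q hq hqπ) (by
      intro Φ
      refine (Subgroup.map_mono ?_).trans (hom_map_alternating_le Φ)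
      rw [Subgroup.zpowers_le, Perm.mem_alternatingGroup, sign_finRotate, pow_one]
      have : Even (q - 1) := hq.even_sub_one (by omega)
      exact this.neg_one_pow) (by rwa [pow_one])
  rw [pow_one] at hzs
  exact hK.pi 3 Nat.prime_three
    (three_dvd_of_two_and_cycle hq hq5 (hK.idx 2 Nat.prime_two h2) hzK hzc hzs)

theorem exists_perm_finset {Δ Δ' : Finset α} (h : Δ.card = Δ'.card) :
    ∃ g : Perm α, ∀ x, g x ∈ Δ' ↔ x ∈ Δ := by
  have h1 : Fintype.card {x // x ∈ Δ} = Fintype.card {x // x ∈ Δ'} := by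
    rw [Fintype.card_coe, Fintype.card_coe, h]
  let e : {x // x ∈ Δ} ≃ {x // x ∈ Δ'} := Fintype.equivOfCardEq h1
  refine ⟨e.extendSubtype, fun x => ?_⟩
  constructor
  · intro hx
    by_contra hcon
    exact e.extendSubtype_not_mem x hcon hx
  · intro hx
    exact e.extendSubtype_mem x hx

theorem mem_map_conj {G : Type*} [Group G] {H : Subgroup G} {g x : G} :
    x ∈ H.map (MulAut.conj g).toMonoidHom ↔ g⁻¹ * x * g ∈ H := by
  constructor
  · rintro ⟨y, hy, rfl⟩
    have : g⁻¹ * ((MulAut.conj g).toMonoidHom y) * g = y := by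
      change g⁻¹ * (g * y * g⁻¹) * g = y
      group
    rw [this]; exact hy
  · intro h
    refine ⟨_, h, ?_⟩
    change g * (g⁻¹ * x * g) * g⁻¹ = x
    group

theorem stabP_map_conj {Δ Δ' : Finset α} {g : Perm α} (hg : ∀ x, g x ∈ Δ' ↔ x ∈ Δ) :
    stabP Δ' = (stabP Δ).map (MulAut.conj g).toMonoidHom := by
  have hg' : ∀ x, g⁻¹ x ∈ Δ ↔ x ∈ Δ' := by
    intro x
    rw [← hg, show g (g⁻¹ x) = x from g.apply_symm_apply x]
  ext h
  rw [mem_map_conj]
  constructor
  · rintro (hh | hh)
    · left
      intro x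
      simp only [Perm.mul_apply]
      rw [hg', hh, hg]
    · right
      intro x
      simp only [Perm.mul_apply]
      rw [hg', hh, hg]
  · rintro (hh | hh)
    · left
      intro x
      have h1 := hh (g⁻¹ x)
      simp only [Perm.mul_apply] at h1
      rw [show g (g⁻¹ x) = x from g.apply_symm_apply x, hg', hg'] at h1
      exact h1
    · right
      intro x
      have h1 := hh (g⁻¹ x)
      simp only [Perm.mul_apply] at h1
      rw [show g (g⁻¹ x) = x from g.apply_symm_apply x, hg', hg'] at h1
      exact h1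

/-- at most one prime of `π` is `≤ n` -/
def OnePrime (π : Set ℕ) (n : ℕ) : Prop :=
  ∀ r s : ℕ, r.Prime → s.Prime → r ∈ π → s ∈ π → r ≤ n → s ≤ n → r = s

theorem exists_two_of_not_onePrime {π : Set ℕ} {n : ℕ} (h : ¬ OnePrime π n) :
    ∃ p q : ℕ, p.Prime ∧ q.Prime ∧ p < q ∧ p ∈ π ∧ q ∈ π ∧ q ≤ n := by
  unfold OnePrime at h
  push Not at h
  obtain ⟨r, s, hr, hs, hrπ, hsπ, hrn, hsn, hne⟩ := h
  rcases lt_or_gt_of_ne hne with h | h
  · exact ⟨r, s, hr, hs, h, hrπ, hsπ, hsn⟩
  · exact ⟨s, r, hs, hr, h, hsπ, hrπ, hrn⟩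

theorem sym_one {π : Set ℕ} (h : OnePrime π (Fintype.card α)) :
    Cfsg.IsCPiGroup π (Perm α) ∧ Cfsg.IsDPiGroup π (Perm α) := by
  apply one_prime
  intro r s hr hs hrπ hsπ hrd hsd
  rw [Nat.card_perm, Nat.card_eq_fintype_card] at hrd hsd
  exact h r s hr hs hrπ hsπ (hr.dvd_factorial.mp hrd) (hs.dvd_factorial.mp hsd)

theorem alt_dvd {r : ℕ} (hr : r.Prime) (h : r ∣ Nat.card (alternatingGroup α)) :
    r ≤ Fintype.card α := by
  have h1 := h.trans (Subgroup.card_subgroup_dvd_card (alternatingGroup α))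
  rw [Nat.card_perm, Nat.card_eq_fintype_card] at h1
  exact hr.dvd_factorial.mp h1

theorem alt_one {π : Set ℕ} (h : OnePrime π (Fintype.card α)) :
    Cfsg.IsCPiGroup π (alternatingGroup α) ∧ Cfsg.IsDPiGroup π (alternatingGroup α) := by
  apply one_prime
  intro r s hr hs hrπ hsπ hrd hsd
  exact h r s hr hs hrπ hsπ (alt_dvd hr hrd) (alt_dvd hs hsd)

/-- classification of Hall subgroups of `Sym(α)` when `π` has two primes `≤ |α|`, in the form of
conjugacy -/
theorem sym_C {π : Set ℕ} (hE : Cfsg.IsEPiGroup π (Perm α)) : Cfsg.IsCPiGroup π (Perm α) := by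
  by_cases h1 : OnePrime π (Fintype.card α)
  · exact (sym_one h1).1
  obtain ⟨p, q, hp, hq, hpq, hpπ, hqπ, hqn⟩ := exists_two_of_not_onePrime h1
  have hnt : Nontrivial α := Fintype.one_lt_card_iff_nontrivial.mp (by have := hp.two_le; omega)
  have h23 : 2 ∈ π ∧ 3 ∈ π := by
    obtain ⟨H, hH⟩ := hE
    exact two_three_mem (inf_hall hH) hp hq hpq hpπ hqπ hqn
  by_cases h2 : ∀ r : ℕ, r.Prime → r ≤ Fintype.card α → r ∈ π
  · refine (all_primes ?_).1
    intro r hr hrd
    rw [Nat.card_perm, Nat.card_eq_fintype_card] at hrd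
    exact h2 r hr (hr.dvd_factorial.mp hrd)
  push Not at h2
  obtain ⟨l, hl, hln, hlπ⟩ := h2
  refine ⟨hE, fun H K hH hK => ?_⟩
  obtain ⟨Δ, rfl, hΔ⟩ := hall_sym hH h23.1 h23.2 hl hln hlπ
  obtain ⟨Δ', rfl, hΔ'⟩ := hall_sym hK h23.1 h23.2 hl hln hlπ
  have hcard : Δ.card = Δ'.card := by
    rcases hΔ with ⟨h3, h4, h5, h6, h7⟩ | ⟨h3, h4, h5, h6⟩ <;>
      rcases hΔ' with ⟨h3', h4', h5', h6', h7'⟩ | ⟨h3', h4', h5', h6'⟩
    · omega
    · exfalso
      rcases h4' with h8 | h8
      · exact h5' (h6 5 (by norm_num) (by omega))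
      · rw [h8] at h4; exact absurd h4 (by decide)
    · exfalso
      rcases h4 with h8 | h8
      · exact h5 (h6' 5 (by norm_num) (by omega))
      · rw [h8] at h4'; exact absurd h4' (by decide)
    · omega
  obtain ⟨g, hg⟩ := exists_perm_finset hcard
  exact ⟨g, stabP_map_conj hg⟩

/-- Hall subgroups of the alternating group extend, when `π` contains two primes `≤ n` -/
theorem alt_extend {π : Set ℕ} (h1 : ¬ OnePrime π (Fintype.card α)) {K : Subgroup (Perm α)}
    (hK : HallAltSub π K) : ∃ H : Subgroup (Perm α), Cfsg.IsPiHall π H ∧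
      H ⊓ alternatingGroup α = K ∧ ∃ t ∈ H, Perm.sign t = -1 := by
  obtain ⟨p, q, hp, hq, hpq, hpπ, hqπ, hqn⟩ := exists_two_of_not_onePrime h1
  obtain ⟨h2, h3⟩ := two_three_mem hK hp hq hpq hpπ hqπ hqn
  exact exists_hall_extension hK h2 h3 (by have := hp.two_le; omega)

theorem alt_E_of_sym_E {π : Set ℕ} (hE : Cfsg.IsEPiGroup π (Perm α)) :
    Cfsg.IsEPiGroup π (alternatingGroup α) := by
  by_cases h1 : OnePrime π (Fintype.card α)
  · exact (alt_one h1).1.1
  obtain ⟨p, q, hp, hq, hpq, hpπ, hqπ, hqn⟩ := exists_two_of_not_onePrime h1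
  have hnt : Nontrivial α := Fintype.one_lt_card_iff_nontrivial.mp (by have := hp.two_le; omega)
  obtain ⟨H, hH⟩ := hE
  exact ⟨_, isPiHall_subgroupOf (inf_hall hH)⟩

theorem sym_E_of_alt_E {π : Set ℕ} (hE : Cfsg.IsEPiGroup π (alternatingGroup α)) :
    Cfsg.IsEPiGroup π (Perm α) := by
  by_cases h1 : OnePrime π (Fintype.card α)
  · exact (sym_one h1).1.1
  obtain ⟨K, hK⟩ := hE
  obtain ⟨H, hH, _⟩ := alt_extend h1 (hallAltSub_map hK)
  exact ⟨H, hH⟩

theorem alt_C {π : Set ℕ} (hE : Cfsg.IsEPiGroup π (alternatingGroup α)) :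
    Cfsg.IsCPiGroup π (alternatingGroup α) := by
  by_cases h1 : OnePrime π (Fintype.card α)
  · exact (alt_one h1).1
  refine ⟨hE, fun K L hK hL => ?_⟩
  obtain ⟨HK, hHK, hHK1, t, ht, htsign⟩ := alt_extend h1 (hallAltSub_map hK)
  obtain ⟨HL, hHL, hHL1, _⟩ := alt_extend h1 (hallAltSub_map hL)
  obtain ⟨g, hg⟩ := (sym_C ⟨HK, hHK⟩).2 HK HL hHK hHL
  -- make `g` even
  obtain ⟨g', hg', hg's⟩ : ∃ g' : Perm α, HL = HK.map (MulAut.conj g').toMonoidHom ∧
      g' ∈ alternatingGroup α := by
    rcases Int.units_eq_one_or (Perm.sign g) with h | h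
    · exact ⟨g, hg, Perm.mem_alternatingGroup.mpr h⟩
    · refine ⟨g * t, ?_, ?_⟩
      · rw [hg]
        ext x
        rw [mem_map_conj, mem_map_conj]
        have h2 : (g * t)⁻¹ * x * (g * t) = t⁻¹ * (g⁻¹ * x * g) * t := by group
        rw [h2]
        constructor
        · intro h3
          exact mul_mem (mul_mem (inv_mem ht) h3) ht
        · intro h3
          have h4 := mul_mem (mul_mem ht h3) (inv_mem ht)
          have h5 : t * (t⁻¹ * (g⁻¹ * x * g) * t) * t⁻¹ = g⁻¹ * x * g := by group
          rwa [h5] at h4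
      · rw [Perm.mem_alternatingGroup, map_mul, h, htsign]; rfl
  refine ⟨⟨g', hg's⟩, ?_⟩
  have hmemK : ∀ x : alternatingGroup α, x ∈ K ↔ (x : Perm α) ∈ HK := by
    intro x
    have h2 : (x : Perm α) ∈ HK ⊓ alternatingGroup α ↔ (x : Perm α) ∈ HK :=
      ⟨fun h => h.1, fun h => ⟨h, x.2⟩⟩
    rw [← h2, hHK1]
    exact (Subgroup.mem_map_iff_mem (alternatingGroup α).subtype_injective).symm
  have hmemL : ∀ x : alternatingGroup α, x ∈ L ↔ (x : Perm α) ∈ HL := by
    intro x
    have h2 : (x : Perm α) ∈ HL ⊓ alternatingGroup α ↔ (x : Perm α) ∈ HL :=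
      ⟨fun h => h.1, fun h => ⟨h, x.2⟩⟩
    rw [← h2, hHL1]
    exact (Subgroup.mem_map_iff_mem (alternatingGroup α).subtype_injective).symm
  ext x
  rw [mem_map_conj, hmemK, hmemL, hg', mem_map_conj]
  rfl

end

end Cfsg.Agent.H164
end
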