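import Mathlib
import Cfsg.Agent.H753.NoPsl52_m3
import Cfsg.Agent.H373.Recog
import Cfsg.Agent.H366.LThreeFour
import Cfsg.Agent.Lib.CoprimeStab
import Cfsg.Agent.S0819
import Cfsg.Agent.S0243
import Cfsg.Agent.FastGrp
import Cfsg.Agent.Prune
set_option linter.all false
prune_inst 0x7f00000000000000000000000000000000000000000000000000000000000000000000000000000000000000000000000000000000000000000000000000000000000000000000000000000000000000003fffffffffffffffffffffffffffbeffbdffffffff
open scoped Cfsg.Agent.FastGrp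

/-!
# `PSL(3,4)` is not a factor of a group with the element orders of `A₈`
-/

set_option autoImplicit false

namespace Cfsg.Agent.H164.NoPsl34

open Subgroup

theorem exists_orderOf_of_dvd {G : Type*} [Group G] [Finite G] {g : G} {n : ℕ} (h : n ∣ orderOf g) :
    ∃ k : ℕ, orderOf (g ^ k) = n :=
  ⟨orderOf g / n, orderOf_pow_orderOf_div (orderOf_pos g).ne' h⟩

theorem lift_orderOf {G : Type*} [Group G] [Finite G] (N : Subgroup G) [N.Normal] {n : ℕ}
    (h : ∃ g : G ⧸ N, orderOf g = n) : ∃ g : G, orderOf g = n := by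
  obtain ⟨g, hg⟩ := h
  obtain ⟨y, rfl⟩ := QuotientGroup.mk_surjective g
  obtain ⟨k, hk⟩ := exists_orderOf_of_dvd (g := y) (n := n) (by
    rw [← hg]
    exact orderOf_map_dvd (QuotientGroup.mk' N) y)
  exact ⟨y ^ k, hk⟩

theorem seven_quot {G : Type*} [Group G] [Finite G] (N : Subgroup G) [N.Normal]
    (h7 : ∀ g : G, 7 ∣ orderOf g → orderOf g = 7) (g : G ⧸ N) (hg : 7 ∣ orderOf g) : orderOf g = 7 := by
  obtain ⟨y, rfl⟩ := QuotientGroup.mk_surjective g
  have h1 : orderOf (y : G ⧸ N) ∣ orderOf y := orderOf_map_dvd (QuotientGroup.mk' N) y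
  have h2 := h7 y (hg.trans h1)
  rw [h2] at h1
  exact Nat.dvd_antisymm h1 hg

/-- Elements of order 7 commute with no element of order 3. -/
theorem not_commute {G : Type*} [Group G] (h7 : ∀ g : G, 7 ∣ orderOf g → orderOf g = 7) {x y : G}
    {s : ℕ} (hs : s.Prime) (hs7 : s ≠ 7) (hx : orderOf x = 7) (hy : orderOf y = s) : ¬ Commute x y := by
  intro hc
  have hcop : (orderOf x).Coprime (orderOf y) := by
    rw [hx, hy]
    exact (Nat.coprime_primes (by norm_num) hs).2 (Ne.symm hs7)
  have h1 := hc.orderOf_mul_eq_mul_orderOf_of_coprime hcop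
  have h2 := h7 (x * y) (by rw [h1, hx]; exact dvd_mul_right _ _)
  rw [h1, hx, hy] at h2
  have := hs.two_le
  omega

/-- The intersection of the kernels of all homomorphisms to the group of order three. -/
def resid (K : Type*) [Group K] : Subgroup K where
  carrier := {k | ∀ f : K →* Multiplicative (ZMod 3), f k = 1}
  mul_mem' := by
    intro a b ha hb f
    rw [map_mul, ha f, hb f, one_mul]
  one_mem' := fun f => map_one f
  inv_mem' := by
    intro a ha f
    rw [map_inv, ha f, inv_one]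

/-- A nilpotent group of order divisible by three maps onto the group of order three. -/
theorem exists_hom {K : Type*} [Group K] [Finite K] [hn : Group.IsNilpotent K] (h3 : 3 ∣ Nat.card K) :
    ∃ (f : K →* Multiplicative (ZMod 3)) (k : K), f k ≠ 1 := by
  have : Fact (Nat.Prime 3) := ⟨Nat.prime_three⟩
  obtain ⟨e⟩ := ((Group.isNilpotent_of_finite_tfae (G := K)).out 0 4).1 hn
  have hmem : 3 ∈ (Nat.card K).primeFactors := by
    rw [Nat.mem_primeFactors]
    exact ⟨Nat.prime_three, h3, Nat.card_pos.ne'⟩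
  obtain ⟨R⟩ : Nonempty (Sylow 3 K) := inferInstance
  have h1 : Nontrivial (R : Subgroup K) := by
    rw [Subgroup.nontrivial_iff_ne_bot]
    exact R.ne_bot_of_dvd_card h3
  obtain ⟨M, hMn, hMi, -, -⟩ := Lib.CoprimeStab.exists_normal_index_prime (R : Subgroup K) R.isPGroup'
  let ev : K →* (R : Subgroup K) :=
    ((Pi.evalMonoidHom (fun P : Sylow 3 K => ((P : Subgroup K) : Type _)) R).comp
      (Pi.evalMonoidHom (fun p : (Nat.card K).primeFactors => ∀ P : Sylow p K, ((P : Subgroup K) : Type _)) ⟨3, hmem⟩)).comp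
      e.symm.toMonoidHom
  have hev : Function.Surjective ev := by
    intro r
    obtain ⟨a, ha⟩ := Function.surjective_eval (α := Sylow 3 K) (β := fun P => ((P : Subgroup K) : Type _)) R r
    obtain ⟨b, hb⟩ := Function.surjective_eval (α := (Nat.card K).primeFactors)
      (β := fun p => ∀ P : Sylow p K, ((P : Subgroup K) : Type _)) ⟨3, hmem⟩ a
    refine ⟨e b, ?_⟩
    show (e.symm (e b)) ⟨3, hmem⟩ R = r
    rw [e.symm_apply_apply]
    have hb' : b ⟨3, hmem⟩ = a := hb
    rw [hb']
    exact ha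
  have hM3 : Nat.card ((R : Subgroup K) ⧸ M) = 3 := hMi
  let j : (R : Subgroup K) ⧸ M ≃* Multiplicative (ZMod 3) :=
    mulEquivOfPrimeCardEq (p := 3) hM3 (by rw [Nat.card_eq_fintype_card]; rfl)
  have hM : M ≠ ⊤ := by
    rintro rfl
    rw [Subgroup.index_top] at hMi
    exact absurd hMi (by norm_num)
  obtain ⟨r, hr⟩ : ∃ r : (R : Subgroup K), r ∉ M := by
    by_contra hcon
    push Not at hcon
    exact hM ((Subgroup.eq_top_iff' M).2 hcon)
  obtain ⟨k, rfl⟩ := hev r
  refine ⟨j.toMonoidHom.comp ((QuotientGroup.mk' M).comp ev), k, ?_⟩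
  intro h
  apply hr
  have h5 : j (QuotientGroup.mk' M (ev k)) = 1 := h
  rw [← map_one j] at h5
  have h6 := j.injective h5
  exact (QuotientGroup.eq_one_iff _).1 h6

theorem zmod_three_pow : ∀ z : Multiplicative (ZMod 3), z ^ 3 = 1 := by decide

/-- `3` does not divide the order of the nilpotent normal subgroup `K`. -/
theorem not_three {G : Type*} [Group G] [Finite G] (K : Subgroup G) [K.Normal] [Group.IsNilpotent K]
    {s x : G ⧸ K} (hs : orderOf s = 7) (hx : orderOf x = 3) (hxs : x * s = s * s * x)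
    (h9 : ¬ ∃ g : G, orderOf g = 9) (h7 : ∀ g : G, 7 ∣ orderOf g → orderOf g = 7) : ¬ 3 ∣ Nat.card K := by
  intro h3
  have : Fact (Nat.Prime 3) := ⟨Nat.prime_three⟩
  obtain ⟨f, k, hk⟩ := exists_hom (K := K) h3
  let N : Subgroup G := (resid K).map K.subtype
  have hNmem : ∀ a : K, (a : G) ∈ N ↔ a ∈ resid K := by
    intro a
    constructor
    · rintro ⟨b, hb, hba⟩
      have : b = a := Subtype.ext hba
      rwa [← this]
    · intro ha
      exact ⟨a, ha, rfl⟩
  have hNn : N.Normal := by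
    refine ⟨?_⟩
    rintro _ ⟨a, ha, rfl⟩ g
    refine ⟨MulAut.conjNormal g a, ?_, ?_⟩
    · intro φ
      exact ha (φ.comp (MulAut.conjNormal g : MulAut K).toMonoidHom)
    · show ((MulAut.conjNormal g a : K) : G) = g * (a : G) * g⁻¹
      rw [MulAut.conjNormal_apply]
  have hNK : N ≤ K := by
    rintro _ ⟨a, -, rfl⟩
    exact a.2
  let V : Subgroup (G ⧸ N) := K.map (QuotientGroup.mk' N)
  have hVn : V.Normal := Subgroup.Normal.map inferInstance _ (QuotientGroup.mk'_surjective N)
  let e : (G ⧸ N) ⧸ V ≃* G ⧸ K := QuotientGroup.quotientQuotientEquivQuotient N K hNK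
  have hVcomm : IsMulCommutative V := by
    refine ⟨⟨?_⟩⟩
    rintro ⟨_, a, ha, rfl⟩ ⟨_, b, hb, rfl⟩
    apply Subtype.ext
    show QuotientGroup.mk' N a * QuotientGroup.mk' N b = QuotientGroup.mk' N b * QuotientGroup.mk' N a
    rw [← map_mul, ← map_mul]
    refine (QuotientGroup.eq (s := N)).2 ?_
    have h := (hNmem ((⟨a, ha⟩ * ⟨b, hb⟩ : K)⁻¹ * (⟨b, hb⟩ * ⟨a, ha⟩))).2 (fun φ => by
      rw [map_mul, map_inv, map_mul, map_mul, mul_comm (φ ⟨b, hb⟩), inv_mul_cancel])
    exact h
  have hV3 : ∀ v ∈ V, v ^ 3 = 1 := by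
    rintro _ ⟨a, ha, rfl⟩
    rw [← map_pow]
    refine (QuotientGroup.eq_one_iff (N := N) _).2 ?_
    have h := (hNmem ((⟨a, ha⟩ : K) ^ 3)).2 (fun φ => by
      rw [map_pow]
      exact zmod_three_pow _)
    exact h
  -- an element of order three in `V`
  have hv : QuotientGroup.mk' N (k : G) ≠ 1 := by
    intro h
    have h1 : (k : G) ∈ N := (QuotientGroup.eq_one_iff _).1 h
    exact hk ((hNmem k).1 h1 f)
  have hvV : QuotientGroup.mk' N (k : G) ∈ V := ⟨k, k.2, rfl⟩
  have hv3 : orderOf (QuotientGroup.mk' N (k : G)) = 3 := orderOf_eq_prime (hV3 _ hvV) hv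
  have h7' := seven_quot N h7
  -- the Frobenius group
  set s1 := e.symm s with hs1
  set x1 := e.symm x with hx1
  have hs1o : orderOf s1 = 7 := by rw [hs1, MulEquiv.orderOf_eq, hs]
  have hx1o : orderOf x1 = 3 := by rw [hx1, MulEquiv.orderOf_eq, hx]
  have hrel : x1 * s1 * x1⁻¹ = s1 * s1 := by
    rw [mul_inv_eq_iff_eq_mul, hx1, hs1, ← map_mul, hxs, map_mul, map_mul]
  have hconj : ∀ a ∈ zpowers s1, x1 * a * x1⁻¹ = a * a := by
    rintro _ ⟨j, rfl⟩
    show x1 * s1 ^ j * x1⁻¹ = s1 ^ j * s1 ^ j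
    rw [← conj_zpow, hrel, (Commute.refl s1).mul_zpow j]
  have hcard : Nat.card (zpowers s1) = 7 := by rw [Nat.card_zpowers, hs1o]
  have ha7 : ∀ a ∈ zpowers s1, a ^ 7 = 1 := by
    intro a ha
    have h1 : orderOf (⟨a, ha⟩ : zpowers s1) ∣ 7 := by
      rw [← hcard]
      exact orderOf_dvd_natCard _
    have h2 := orderOf_dvd_iff_pow_eq_one.1 h1
    exact congrArg Subtype.val h2
  obtain ⟨y, hy⟩ := H371.Frob.exists_orderOf V hVcomm Nat.prime_three hV3 (zpowers s1) (c := x1) (by
      intro a ha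
      rw [hconj a ha]
      exact mul_mem ha ha) (by
      intro i hi hi3 a ha hc
      rw [hx1o] at hi3
      have h1 : x1 ^ i * a * (x1 ^ i)⁻¹ = a := by rw [hc, mul_inv_cancel_right]
      have h5 := ha7 a ha
      interval_cases i
      · rw [pow_one, hconj a ha] at h1
        exact mul_eq_left.1 h1
      · have h2 : x1 ^ 2 * a * (x1 ^ 2)⁻¹ = (a * a) * (a * a) := by
          have : x1 ^ 2 * a * (x1 ^ 2)⁻¹ = x1 * (x1 * a * x1⁻¹) * x1⁻¹ := by
            simp only [pow_two, mul_inv_rev, mul_assoc]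
          rw [this, hconj a ha, hconj _ (mul_mem ha ha)]
        rw [h2] at h1
        have h3 : a ^ 3 = 1 := by
          have h4 : a * a * (a * a) = a ^ 3 * a := by simp only [pow_succ, pow_zero, one_mul, mul_assoc]
          rw [h4] at h1
          exact mul_eq_right.1 h1
        have h6 : a ^ 7 = (a ^ 3) ^ 2 * a := by rw [← pow_mul, ← pow_succ]
        rw [h6, h3, one_pow, one_mul] at h5
        exact h5) (by rw [hcard]; norm_num) (by
      obtain ⟨g, hg⟩ := QuotientGroup.mk_surjective s1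
      refine ⟨g, ?_, _, hvV, ?_⟩
      · rw [hg]
        exact mem_zpowers _
      · intro hc
        have h1 : 7 ∣ orderOf g := by
          rw [← hs1o, ← hg]
          exact orderOf_map_dvd (QuotientGroup.mk' V) g
        exact not_commute h7' Nat.prime_three (by norm_num) (h7' g h1) hv3 hc)
  rw [hx1o] at hy
  exact h9 (lift_orderOf N ⟨y, hy⟩)

/-- An element of order three outside the normal subgroup `S` gives an element of order 21. -/
theorem outer_three {G : Type*} [Group G] [Finite G] (S : Subgroup G) [S.Normal] {s x z : G} (hs : s ∈ S) (hx : x ∈ S)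
    (hso : orderOf s = 7) (hxo : orderOf x = 3) (hxs : x * s = s * s * x) (hS : ¬ 49 ∣ Nat.card S)
    (hz : z ^ 3 = 1) (hzS : z ∉ S) (h7 : ∀ g : G, 7 ∣ orderOf g → orderOf g = 7) : False := by
  have : Fact (Nat.Prime 7) := ⟨by norm_num⟩
  have : Fact (Nat.Prime 3) := ⟨Nat.prime_three⟩
  -- the Sylow subgroup
  have hp : IsPGroup 7 (zpowers (⟨s, hs⟩ : S)) := by
    refine IsPGroup.of_card (n := 1) ?_
    rw [Nat.card_zpowers, Subgroup.orderOf_mk, hso, pow_one]
  obtain ⟨P, hP⟩ := hp.exists_le_sylow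
  have hPz : zpowers (⟨s, hs⟩ : S) = (P : Subgroup S) := by
    refine Subgroup.eq_of_le_of_card_ge hP ?_
    rw [Nat.card_zpowers, Subgroup.orderOf_mk, hso]
    obtain ⟨k, hk⟩ := (IsPGroup.iff_card (p := 7)).1 P.isPGroup'
    rw [hk]
    have h1 : Nat.card (P : Subgroup S) ∣ Nat.card S := Subgroup.card_subgroup_dvd_card _
    rw [hk] at h1
    have h2 : k < 2 := by
      by_contra hcon
      push Not at hcon
      exact hS ((pow_dvd_pow 7 hcon).trans h1)
    calc 7 ^ k ≤ 7 ^ 1 := Nat.pow_le_pow_right (by norm_num) (by omega)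
      _ = 7 := pow_one 7
  have hmap : (P : Subgroup S).map S.subtype = zpowers s := by
    rw [← hPz, MonoidHom.map_zpowers]
    rfl
  have htop := P.normalizer_sup_eq_top
  rw [hmap] at htop
  set N := normalizer ((zpowers s : Subgroup G) : Set G) with hN
  have h1 : S.relIndex N = S.index := by
    rw [← Subgroup.relIndex_sup_right N S, htop, Subgroup.relIndex_top_right]
  have h3S : 3 ∣ S.index := by
    have h4 : orderOf (QuotientGroup.mk' S z) = 3 := by
      refine orderOf_eq_prime ?_ ?_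
      · rw [← map_pow, hz, map_one]
      · intro h
        exact hzS ((QuotientGroup.eq_one_iff z).1 h)
    have h5 : orderOf (QuotientGroup.mk' S z) ∣ Nat.card (G ⧸ S) := orderOf_dvd_natCard _
    rw [h4] at h5
    exact h5
  have hxN : x ∈ N := by
    rw [hN]
    refine Subgroup.mem_normalizer_fintype ?_
    rintro _ ⟨j, rfl⟩
    show x * s ^ j * x⁻¹ ∈ zpowers s
    have h4 : x * s * x⁻¹ = s * s := by rw [hxs, mul_inv_cancel_right]
    rw [← conj_zpow, h4]
    exact zpow_mem (mul_mem (mem_zpowers s) (mem_zpowers s)) j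
  have h3N : 3 ∣ Nat.card (S.subgroupOf N) := by
    have h4 : orderOf (⟨⟨x, hxN⟩, hx⟩ : S.subgroupOf N) = 3 := by
      rw [← Subgroup.orderOf_coe, ← Subgroup.orderOf_coe]
      exact hxo
    rw [← h4]
    exact orderOf_dvd_natCard _
  have h9 : 9 ∣ Nat.card N := by
    have h4 := Subgroup.card_mul_index (S.subgroupOf N)
    have h5 : (S.subgroupOf N).index = S.index := h1
    rw [h5] at h4
    rw [← h4]
    exact mul_dvd_mul h3N h3S
  -- the action on the group of order seven
  have hcz : Nat.card (zpowers s) = 7 := by rw [Nat.card_zpowers, hso]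
  have h6 : Nat.card (MulAut (zpowers s)) = 6 := by
    rw [IsCyclic.card_mulAut, hcz]
    decide
  let ψ := (zpowers s).normalizerMonoidHom
  have h10 : Nat.card ψ.range ∣ 6 := by
    rw [← h6]
    exact Subgroup.card_subgroup_dvd_card _
  have h11 : Nat.card ψ.ker * Nat.card ψ.range = Nat.card N := by
    rw [← Subgroup.index_ker]
    exact Subgroup.card_mul_index _
  have h12 : 3 ∣ Nat.card ψ.ker := by
    by_contra hcon
    have h13 : Nat.Coprime 9 (Nat.card ψ.ker) := by
      have : Nat.Coprime (3 ^ 2) (Nat.card ψ.ker) :=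
        Nat.Coprime.pow_left 2 ((Nat.Prime.coprime_iff_not_dvd Nat.prime_three).2 hcon)
      exact this
    rw [← h11] at h9
    have h14 : 9 ∣ 6 := (h13.dvd_of_dvd_mul_left h9).trans h10
    omega
  obtain ⟨y, hy⟩ := exists_prime_orderOf_dvd_card' (G := ψ.ker) 3 h12
  have hy1 : orderOf (((y : ψ.ker) : N) : G) = 3 := by
    rw [← hy]
    rw [Subgroup.orderOf_coe, Subgroup.orderOf_coe]
  have hy2 : (((y : ψ.ker) : N) : G) ∈ centralizer ((zpowers s : Subgroup G) : Set G) := by
    have h15 : ∀ z ∈ ψ.ker, z ∈ (centralizer ((zpowers s : Subgroup G) : Set G)).subgroupOf N := by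
      intro z hz
      rwa [show ψ.ker = _ from Subgroup.normalizerMonoidHom_ker (zpowers s)] at hz
    exact h15 _ y.2
  exact not_commute h7 Nat.prime_three (by norm_num) hso hy1 (Subgroup.mem_centralizer_iff.1 hy2 s (mem_zpowers s))

/-- **Task 416.** -/
theorem no_psl34 {G : Type*} [Group G] [Finite G] (K : Subgroup G) [K.Normal] (hK : Group.IsSolvable ↥K)
    (S : Subgroup (G ⧸ K)) [S.Normal] (hC : Subgroup.centralizer (S : Set (G ⧸ K)) = ⊥) {F : Type*} [Field F]
    [Fintype F] (hF : Fintype.card F = 4) (e : ↥S ≃* Matrix.ProjectiveSpecialLinearGroup (Fin 3) F)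
    (h7 : ¬ 7 ∣ Nat.card ↥K) (h5 : ¬ 5 ∣ Nat.card ↥K * S.index) (h9 : ¬ ∃ g : G, orderOf g = 9)
    (h7' : ∀ g : G, 7 ∣ orderOf g → orderOf g = 7) (h15 : ∃ g : G, orderOf g = 15) : False := by
  have : Fact (Nat.Prime 7) := ⟨by norm_num⟩
  have : Fact (Nat.Prime 5) := ⟨by norm_num⟩
  have : Fact (Nat.Prime 3) := ⟨Nat.prime_three⟩
  obtain ⟨w, u, h⟩ := H366.LThreeFour.exists_isW hF
  set s : G ⧸ K := ((e.symm (H366.LThreeFour.q (H366.LThreeFour.S1 h)) : S) : G ⧸ K) with hs
  set x : G ⧸ K := ((e.symm (H366.LThreeFour.q (H366.LThreeFour.X h)) : S) : G ⧸ K) with hx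
  have hsS : s ∈ S := SetLike.coe_mem _
  have hxS : x ∈ S := SetLike.coe_mem _
  have hso : orderOf s = 7 := by
    rw [hs, Subgroup.orderOf_coe, MulEquiv.orderOf_eq, H366.LThreeFour.orderOf_S1 h]
  have hxs : x * s = s * s * x := by
    rw [hx, hs, ← Subgroup.coe_mul, ← Subgroup.coe_mul, ← Subgroup.coe_mul, ← map_mul, ← map_mul, ← map_mul, ← map_mul,
      ← map_mul, ← map_mul, H366.LThreeFour.relT1 h]
  have hx3 : x ^ 3 = 1 := by
    rw [hx, ← Subgroup.coe_pow, ← map_pow, ← map_pow]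
    have : H366.LThreeFour.X h ^ 3 = H366.LThreeFour.X h * H366.LThreeFour.X h * H366.LThreeFour.X h := by
      simp only [pow_succ, pow_zero, one_mul]
    rw [this, H366.LThreeFour.relX h, map_one, map_one]
    rfl
  have hxo : orderOf x = 3 := by
    refine orderOf_eq_prime hx3 ?_
    intro h1
    rw [h1, one_mul, mul_one] at hxs
    have h2 : s = 1 := by
      have := hxs.symm
      exact mul_eq_left.1 this
    rw [h2, orderOf_one] at hso
    norm_num at hso
  -- `K` is nilpotent
  obtain ⟨y, hy⟩ := lift_orderOf K ⟨s, hso⟩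
  have hnil : Group.IsNilpotent K := by
    refine H366.Coclique.nilpotent_of_fpf K (y := y) (r := 7) (by norm_num) (by rw [← hy, pow_orderOf_eq_one]) ?_
    intro m hm hc
    by_contra hne
    have h1 : orderOf m ≠ 1 := by rwa [Ne, orderOf_eq_one_iff]
    obtain ⟨t, ht, htm⟩ := Nat.exists_prime_and_dvd h1
    have htK : t ∣ Nat.card K := by
      refine htm.trans ?_
      have : orderOf (⟨m, hm⟩ : K) ∣ Nat.card K := orderOf_dvd_natCard _
      rwa [Subgroup.orderOf_mk] at this
    obtain ⟨j, hj⟩ := exists_orderOf_of_dvd htm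
    have hcm : Commute y m := hc
    exact not_commute h7' ht (by rintro rfl; exact h7 htK) hy hj (hcm.pow_right j)
  have h3K := not_three K hso hxo hxs h9 h7'
  have h5K : ¬ 5 ∣ Nat.card K := fun h => h5 (h.mul_right _)
  have h5S : ¬ 5 ∣ S.index := fun h => h5 (h.mul_left _)
  obtain ⟨z, hz⟩ := h15
  have hz3 : orderOf (z ^ 3) = 5 := by
    rw [orderOf_pow_of_dvd (by norm_num) (by rw [hz]; norm_num), hz]
  have hz5 : orderOf (z ^ 5) = 3 := by
    rw [orderOf_pow_of_dvd (by norm_num) (by rw [hz]; norm_num), hz]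
  have hz3K : z ^ 3 ∉ K := by
    intro hcon
    apply h5K
    have : orderOf (⟨z ^ 3, hcon⟩ : K) ∣ Nat.card K := orderOf_dvd_natCard _
    rwa [Subgroup.orderOf_mk, hz3] at this
  have hz5K : z ^ 5 ∉ K := by
    intro hcon
    apply h3K
    have : orderOf (⟨z ^ 5, hcon⟩ : K) ∣ Nat.card K := orderOf_dvd_natCard _
    rwa [Subgroup.orderOf_mk, hz5] at this
  have hz15 : z ^ 15 = 1 := by rw [← hz, pow_orderOf_eq_one]
  set zb : G ⧸ K := QuotientGroup.mk' K z with hzb
  have hzb15 : zb ^ 15 = 1 := by rw [hzb, ← map_pow, hz15, map_one]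
  have hzb3 : zb ^ 3 ≠ 1 := by
    intro h1
    rw [hzb, ← map_pow] at h1
    exact hz3K ((QuotientGroup.eq_one_iff _).1 h1)
  have hzb5 : zb ^ 5 ≠ 1 := by
    intro h1
    rw [hzb, ← map_pow] at h1
    exact hz5K ((QuotientGroup.eq_one_iff _).1 h1)
  have hzbo : orderOf zb = 15 := by
    have h1 : orderOf zb ∣ 15 := orderOf_dvd_of_pow_eq_one hzb15
    have h2 : ¬ orderOf zb ∣ 3 := fun h => hzb3 (orderOf_dvd_iff_pow_eq_one.1 h)
    have h3 : ¬ orderOf zb ∣ 5 := fun h => hzb5 (orderOf_dvd_iff_pow_eq_one.1 h)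
    have h4 : orderOf zb ≤ 15 := Nat.le_of_dvd (by norm_num) h1
    have h6 : 0 < orderOf zb := orderOf_pos zb
    generalize orderOf zb = m at *
    interval_cases m <;> first | rfl | (exfalso; revert h1 h2 h3; decide)
  -- the five-part lies in `S`
  have hzS3 : zb ^ 3 ∈ S := by
    by_contra hcon
    apply h5S
    have h4 : orderOf (QuotientGroup.mk' S (zb ^ 3)) = 5 := by
      refine orderOf_eq_prime ?_ ?_
      · rw [← map_pow, ← pow_mul, hzb15, map_one]
      · intro h
        exact hcon ((QuotientGroup.eq_one_iff _).1 h)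
    have h5 : orderOf (QuotientGroup.mk' S (zb ^ 3)) ∣ Nat.card ((G ⧸ K) ⧸ S) := orderOf_dvd_natCard _
    rw [h4] at h5
    exact h5
  have hzS5 : zb ^ 5 ∉ S := by
    intro hcon
    have h1 : zb ∈ S := by
      have h2 : zb = (zb ^ 3) ^ 2 * (zb ^ 5)⁻¹ := by group
      rw [h2]
      exact mul_mem (pow_mem hzS3 2) (inv_mem hcon)
    refine S0819.result hF (e ⟨zb, h1⟩) ?_
    rw [MulEquiv.orderOf_eq, Subgroup.orderOf_mk, hzbo]
  have hcS : ¬ 49 ∣ Nat.card S := by
    have h1 : Nat.card S = Nat.card (Matrix.ProjectiveSpecialLinearGroup (Fin 3) F) := Nat.card_congr e.toEquiv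
    have h2 := S0243.result (F := F) hF 3 (by norm_num)
    rw [Fin.prod_univ_three] at h2
    rw [h1]
    intro h3
    obtain ⟨k, hk⟩ := h3
    rw [hk] at h2
    norm_num at h2
    omega
  exact outer_three S hsS hxS hso hxo hxs hcS (by rw [← pow_mul, hzb15]) hzS5 (seven_quot K h7')

end Cfsg.Agent.H164.NoPsl34
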